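import Mathlib
import Cfsg.Agent.Helper8.AutSLnW

set_option autoImplicit false

/-!
# S2262 (swarm "AutOrd"), piece [C]: Artin's theorem for a field automorphism (helper8)

`ao_q0 σ` is the number of fixed points of the field automorphism `σ` of the finite field `F`;
`ao_q0_pow : ao_q0 σ ^ orderOf σ = Fintype.card F` and `ao_q0_two_le : 2 ≤ ao_q0 σ`.
The fixed points form the subfield `Helper8.AutSLn.fixField σ` (`ao_q0_eq_card_fixField`).
-/

namespace Cfsg.Agent.AutOrd

open Cfsg.Agent.Helper8.AutSLn

variable {F : Type*} [Field F] [Fintype F]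

/-- number of fixed points of a field automorphism -/
noncomputable def ao_q0 (σ : F ≃+* F) : ℕ := Nat.card {x : F // σ x = x}

omit [Fintype F] in
theorem ao_q0_eq_card_fixField (σ : F ≃+* F) : ao_q0 σ = Nat.card (fixField σ) := rfl

/-- **Artin**: `F` has degree `orderOf σ` over the fixed field of `σ` -/
theorem ao_q0_pow (σ : F ≃+* F) : ao_q0 σ ^ orderOf σ = Fintype.card F := by
  have : Finite (F ≃+* F) :=
    Finite.of_injective (fun e : F ≃+* F => (e : F → F)) DFunLike.coe_injective
  obtain ⟨G, hG⟩ : ∃ G : Subgroup (F ≃+* F), G = Subgroup.zpowers σ := ⟨_, rfl⟩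
  have : Fintype G := Fintype.ofFinite _
  have h1 := FixedPoints.finrank_eq_card G F
  have h2 : FixedPoints.subfield G F = fixField σ := by
    ext a
    rw [mem_fixField]
    constructor
    · intro h
      exact h ⟨σ, by rw [hG]; exact Subgroup.mem_zpowers σ⟩
    · intro h g
      obtain ⟨g, hg⟩ := g
      rw [hG] at hg
      obtain ⟨k, rfl⟩ := Subgroup.mem_zpowers_iff.mp hg
      show (σ ^ k) a = a
      have h3 : ∀ k : ℕ, (σ ^ k) a = a := by
        intro k
        induction k with
        | zero => rfl
        | succ k ih =>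
          rw [pow_succ]
          show (σ ^ k) (σ a) = a
          rw [h, ih]
      rcases Int.eq_nat_or_neg k with ⟨j, rfl | rfl⟩
      · rw [zpow_natCast]
        exact h3 j
      · rw [_root_.zpow_neg, zpow_natCast]
        show (σ ^ j).symm a = a
        rw [RingEquiv.symm_apply_eq, h3]
  have h4 : Fintype.card G = orderOf σ := by
    rw [← Nat.card_eq_fintype_card, hG, Nat.card_zpowers]
  rw [h2, h4] at h1
  have : Fintype (fixField σ) := Fintype.ofFinite _
  have h5 := Module.card_eq_pow_finrank (K := fixField σ) (V := F)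
  rw [h1] at h5
  rw [ao_q0_eq_card_fixField, Nat.card_eq_fintype_card, ← h5]

theorem ao_q0_two_le (σ : F ≃+* F) : 2 ≤ ao_q0 σ := by
  have : Fintype (fixField σ) := Fintype.ofFinite _
  rw [ao_q0_eq_card_fixField, Nat.card_eq_fintype_card]
  exact Fintype.one_lt_card

end Cfsg.Agent.AutOrd
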