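import Mathlib
import Cfsg.Agent.Helper8.AutSLnI
import Cfsg.Agent.Helper8.AutSLnM
import Cfsg.Agent.Helper8.AutSLnN

set_option autoImplicit false

/-!
# S2262 (swarm "AutOrd"), piece [E]: the arithmetic of the standard automorphisms of `PSL_d(F)` (helper9)

With `c_g = pslConj g`, `f_σ = pslField σ`, `ι = pslInvTr` (helper8's `Helper8/AutSLn*`):

* `ao_E_N g σ j = g · σ(g) ⋯ σ^{j-1}(g)`; `ao_E_pow : (c_g f_σ)^j = c_{N_j} f_{σ^j}`;
  `ao_E_N_succ' : N_{j+1} = N_j · σ^j(g)`; `ao_E_map_N : σ(N_e) = g⁻¹ N_e g` for `e = orderOf σ`;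
  `ao_E_pow_orderOf : (c_g f_σ)^e = c_{N_e}`;
* `ao_E_sq : (c_g f_σ ι)² = c_z f_{σ²}` with `z = g · (σ(g))^{-T}`;
* `ao_E_orderOf_dvd`, `ao_E_orderOf_le : o(β) ≤ k · o(β^k)`;
* `ao_E_pslConj_scalar`: the class of a scalar matrix acts trivially; `ao_E_orderOf_pslConj_dvd`.
-/

namespace Cfsg.Agent.AutOrd

open Matrix Cfsg.Agent.Helper8.AutSLn

variable {m : Type*} [Fintype m] [DecidableEq m] {F : Type*} [Field F]

/-- `N_j = g · σ(g) ⋯ σ^{j-1}(g)`. -/
def ao_E_N (g : GL m F) (σ : F ≃+* F) : ℕ → GL m F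
  | 0 => 1
  | j + 1 => g * Matrix.GeneralLinearGroup.map (σ : F →+* F) (ao_E_N g σ j)

theorem ao_E_N_zero (g : GL m F) (σ : F ≃+* F) : ao_E_N g σ 0 = 1 := rfl

theorem ao_E_N_succ (g : GL m F) (σ : F ≃+* F) (j : ℕ) :
    ao_E_N g σ (j + 1) = g * Matrix.GeneralLinearGroup.map (σ : F →+* F) (ao_E_N g σ j) := rfl

/-- `(c_g f_σ)^j = c_{N_j} f_{σ^j}`. -/
theorem ao_E_pow (g : GL m F) (σ : F ≃+* F) (j : ℕ) :
    (pslConj g * pslField σ : MulAut (ProjectiveSpecialLinearGroup m F)) ^ j =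
      pslConj (ao_E_N g σ j) * pslField (σ ^ j) := by
  induction j with
  | zero => rw [pow_zero, pow_zero, ao_E_N_zero, map_one, map_one, one_mul]
  | succ j ih =>
    rw [pow_succ', ih, ao_E_N_succ, map_mul, pow_succ', map_mul]
    calc pslConj g * pslField σ * (pslConj (ao_E_N g σ j) * pslField (σ ^ j))
        = pslConj g * (pslField σ * pslConj (ao_E_N g σ j)) * pslField (σ ^ j) := by
          simp only [mul_assoc]
      _ = pslConj g * (pslConj (Matrix.GeneralLinearGroup.map (σ : F →+* F) (ao_E_N g σ j)) *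
            pslField σ) * pslField (σ ^ j) := by rw [pslField_mul_pslConj]
      _ = _ := by simp only [mul_assoc]

theorem ao_E_map_map (σ τ : F ≃+* F) (g : GL m F) :
    Matrix.GeneralLinearGroup.map (σ : F →+* F) (Matrix.GeneralLinearGroup.map (τ : F →+* F) g) =
      Matrix.GeneralLinearGroup.map ((σ * τ : F ≃+* F) : F →+* F) g := by
  apply Units.ext
  rw [GL_map_coe, GL_map_coe, GL_map_coe, Matrix.map_map]
  rfl

theorem ao_E_map_one (g : GL m F) :
    Matrix.GeneralLinearGroup.map ((1 : F ≃+* F) : F →+* F) g = g := by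
  apply Units.ext
  rw [GL_map_coe]
  ext i j
  rfl

/-- `N_{j+1} = N_j · σ^j(g)`. -/
theorem ao_E_N_succ' (g : GL m F) (σ : F ≃+* F) (j : ℕ) :
    ao_E_N g σ (j + 1) =
      ao_E_N g σ j * Matrix.GeneralLinearGroup.map ((σ ^ j : F ≃+* F) : F →+* F) g := by
  induction j with
  | zero =>
    rw [ao_E_N_succ, ao_E_N_zero, map_one, mul_one, one_mul, pow_zero, ao_E_map_one]
  | succ j ih =>
    rw [ao_E_N_succ g σ (j + 1), ih, map_mul, ao_E_map_map, ← pow_succ', ← mul_assoc, ← ao_E_N_succ,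
      ← ih]

/-- `σ(N_e) = g⁻¹ N_e g` for `e = orderOf σ`. -/
theorem ao_E_map_N (g : GL m F) (σ : F ≃+* F) :
    Matrix.GeneralLinearGroup.map (σ : F →+* F) (ao_E_N g σ (orderOf σ)) =
      g⁻¹ * ao_E_N g σ (orderOf σ) * g := by
  have h1 := ao_E_N_succ g σ (orderOf σ)
  have h2 := ao_E_N_succ' g σ (orderOf σ)
  rw [pow_orderOf_eq_one, ao_E_map_one] at h2
  rw [h1] at h2
  rw [mul_assoc, ← h2, inv_mul_cancel_left]

/-- `(c_g f_σ)^e = c_{N_e}` for `e = orderOf σ`. -/
theorem ao_E_pow_orderOf (g : GL m F) (σ : F ≃+* F) :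
    (pslConj g * pslField σ : MulAut (ProjectiveSpecialLinearGroup m F)) ^ orderOf σ =
      pslConj (ao_E_N g σ (orderOf σ)) := by
  rw [ao_E_pow, pow_orderOf_eq_one, map_one, mul_one]

/-- `σ(g^{-T}) = (σ(g))^{-T}`. -/
theorem ao_E_map_glInvTr (σ : F ≃+* F) (g : GL m F) :
    Matrix.GeneralLinearGroup.map (σ : F →+* F) (glInvTr g) =
      glInvTr (Matrix.GeneralLinearGroup.map (σ : F →+* F) g) := by
  apply Units.ext
  rw [GL_map_coe, glInvTr_coe, glInvTr_coe, ← map_inv, GL_map_coe, Matrix.transpose_map]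

/-- `(c_g f_σ ι)² = c_z f_{σ²}` with `z = g · (σ(g))^{-T}`. -/
theorem ao_E_sq (g : GL m F) (σ : F ≃+* F) :
    (pslConj g * pslField σ * pslInvTr : MulAut (ProjectiveSpecialLinearGroup m F)) ^ 2 =
      pslConj (g * glInvTr (Matrix.GeneralLinearGroup.map (σ : F →+* F) g)) * pslField (σ ^ 2) := by
  rw [pow_two, pow_two, map_mul, map_mul, ← ao_E_map_glInvTr]
  calc pslConj g * pslField σ * pslInvTr * (pslConj g * pslField σ * pslInvTr)
      = pslConj g * pslField σ * (pslInvTr * pslConj g) * pslField σ * pslInvTr := by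
        simp only [mul_assoc]
    _ = pslConj g * pslField σ * (pslConj (glInvTr g) * pslInvTr) * pslField σ * pslInvTr := by
        rw [pslInvTr_mul_pslConj]
    _ = pslConj g * pslField σ * pslConj (glInvTr g) * (pslInvTr * pslField σ) * pslInvTr := by
        simp only [mul_assoc]
    _ = pslConj g * pslField σ * pslConj (glInvTr g) * (pslField σ * pslInvTr) * pslInvTr := by
        rw [pslInvTr_mul_pslField]
    _ = pslConj g * (pslField σ * pslConj (glInvTr g)) * pslField σ * (pslInvTr * pslInvTr) := by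
        simp only [mul_assoc]
    _ = pslConj g * (pslConj (Matrix.GeneralLinearGroup.map (σ : F →+* F) (glInvTr g)) *
          pslField σ) * pslField σ * 1 := by
        rw [pslField_mul_pslConj, pslInvTr_mul_self]
    _ = _ := by simp only [mul_assoc, mul_one]

/-! ### Orders -/

theorem ao_E_orderOf_dvd {G : Type*} [Group G] (β : G) (k : ℕ) :
    orderOf β ∣ k * orderOf (β ^ k) := by
  apply orderOf_dvd_of_pow_eq_one
  rw [pow_mul, pow_orderOf_eq_one]

theorem ao_E_orderOf_le {G : Type*} [Group G] [Finite G] (β : G) (k : ℕ) (hk : 0 < k) :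
    orderOf β ≤ k * orderOf (β ^ k) :=
  Nat.le_of_dvd (Nat.mul_pos hk (orderOf_pos _)) (ao_E_orderOf_dvd β k)

/-- A scalar matrix induces the trivial automorphism. -/
theorem ao_E_pslConj_scalar [Nontrivial m] (y : GL m F) (c : F)
    (h : (y : Matrix m m F) = c • (1 : Matrix m m F)) :
    (pslConj y : MulAut (ProjectiveSpecialLinearGroup m F)) = 1 := by
  rw [← MonoidHom.mem_ker, ker_pslConj, Subgroup.mem_center_iff]
  intro k
  apply Units.ext
  rw [Units.val_mul, Units.val_mul, h, Matrix.mul_smul, Matrix.smul_mul, mul_one, one_mul]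

/-- If `y ^ n` is scalar then the order of `c_y` divides `n`. -/
theorem ao_E_orderOf_pslConj_dvd [Nontrivial m] (y : GL m F) (n : ℕ) (c : F)
    (h : ((y ^ n : GL m F) : Matrix m m F) = c • (1 : Matrix m m F)) :
    orderOf (pslConj y : MulAut (ProjectiveSpecialLinearGroup m F)) ∣ n := by
  apply orderOf_dvd_of_pow_eq_one
  rw [← map_pow]
  exact ao_E_pslConj_scalar _ c h

/-! ### The same in the shapes of the architect's stubs (`notes/AutOrd/Stubs_helper1.lean.txt`) -/

section Stubs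

variable {F : Type*} [Field F] [Fintype F] {d : ℕ}

/-- `N_j = g σ(g) ⋯ σ^{j-1}(g)` -/
noncomputable def ao_norm (σ : F ≃+* F) (g : GL (Fin d) F) : ℕ → GL (Fin d) F
  | 0 => 1
  | j + 1 => g * Matrix.GeneralLinearGroup.map (σ : F →+* F) (ao_norm σ g j)

theorem ao_norm_eq (σ : F ≃+* F) (g : GL (Fin d) F) (j : ℕ) : ao_norm σ g j = ao_E_N g σ j := by
  induction j with
  | zero => rfl
  | succ j ih =>
    show g * Matrix.GeneralLinearGroup.map (σ : F →+* F) (ao_norm σ g j) =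
      g * Matrix.GeneralLinearGroup.map (σ : F →+* F) (ao_E_N g σ j)
    rw [ih]

theorem ao_pow_conj_field (σ : F ≃+* F) (g : GL (Fin d) F) (j : ℕ) :
    (pslConj g * pslField σ) ^ j = pslConj (ao_norm σ g j) * pslField (σ ^ j) := by
  rw [ao_norm_eq]
  exact ao_E_pow g σ j

theorem ao_norm_twist (σ : F ≃+* F) (g : GL (Fin d) F) :
    Matrix.GeneralLinearGroup.map (σ : F →+* F) (ao_norm σ g (orderOf σ)) =
      g⁻¹ * ao_norm σ g (orderOf σ) * g := by
  rw [ao_norm_eq]
  exact ao_E_map_N g σ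

theorem ao_graph_sq (σ : F ≃+* F) (g : GL (Fin d) F) :
    (pslConj g * pslField σ * pslInvTr) ^ 2 =
      pslConj (g * glInvTr (Matrix.GeneralLinearGroup.map (σ : F →+* F) g)) * pslField (σ ^ 2) :=
  ao_E_sq g σ

end Stubs

end Cfsg.Agent.AutOrd
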