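import Mathlib
import Cfsg.Agent.Helper8.AutSLnO
import Cfsg.Agent.AutOrd.Artin

set_option autoImplicit false

/-!
S2262 / AutOrd, piece [B] (Case 1 core).  For a field automorphism `σ` of a finite field `F` with fixed
field `F₀` (`q₀` elements) and an invertible matrix `y` whose characteristic polynomial has `σ`-fixed
coefficients, some power `y ^ n` with `(q₀ - 1) * n ≤ q₀ ^ d - 1` is a scalar matrix; hence the
order of the inner-diagonal automorphism `pslConj y` is at most `(q₀ ^ d - 1) / (q₀ - 1)`.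
Pure counting in the commutative algebra `F₀[y]`.
-/

namespace Cfsg.Agent.AutOrd

open Polynomial Matrix

variable {F : Type*} [Field F] {m : Type*} [Fintype m] [DecidableEq m]

/-- the fixed field of a field automorphism -/
def ao_B_fix (σ : F ≃+* F) : Subfield F := RingHom.eqLocusField (σ : F →+* F) (RingHom.id F)

theorem ao_B_mem_fix (σ : F ≃+* F) (x : F) : x ∈ ao_B_fix σ ↔ σ x = x := Iff.rfl

theorem ao_B_card_fix (σ : F ≃+* F) :
    Nat.card (ao_B_fix σ) = Nat.card {x : F // σ x = x} := rfl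

/-- the characteristic polynomial descends to the fixed field -/
theorem ao_B_exists_lift (σ : F ≃+* F) (M : Matrix m m F)
    (hM : M.charpoly.map (σ : F →+* F) = M.charpoly) :
    ∃ χ₀ : (ao_B_fix σ)[X], χ₀.map (algebraMap (ao_B_fix σ) F) = M.charpoly ∧ χ₀.Monic ∧
      χ₀.degree = (Fintype.card m : ℕ) := by
  have h1 : M.charpoly ∈ Polynomial.lifts (algebraMap (ao_B_fix σ) F) := by
    rw [Polynomial.lifts_iff_coeff_lifts]
    intro k
    have h2 : σ (M.charpoly.coeff k) = M.charpoly.coeff k := by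
      conv_rhs => rw [← hM]
      rw [Polynomial.coeff_map]
      rfl
    exact ⟨⟨M.charpoly.coeff k, h2⟩, rfl⟩
  obtain ⟨χ₀, h3, h4, h5⟩ := Polynomial.lifts_and_degree_eq_and_monic h1 (Matrix.charpoly_monic M)
  exact ⟨χ₀, h3, h5, by rw [h4, Matrix.charpoly_degree_eq_dim]⟩

/-- every polynomial expression in `M` over the fixed field is one of degree `< d` -/
theorem ao_B_aeval_mod (σ : F ≃+* F) (M : Matrix m m F) (χ₀ : (ao_B_fix σ)[X])
    (h1 : χ₀.map (algebraMap (ao_B_fix σ) F) = M.charpoly) (P : (ao_B_fix σ)[X]) :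
    Polynomial.aeval M P = Polynomial.aeval M (P %ₘ χ₀) := by
  have h2 : Polynomial.aeval M χ₀ = 0 := by
    rw [← Polynomial.aeval_map_algebraMap F M χ₀, h1, Matrix.aeval_self_charpoly]
  conv_lhs => rw [← Polynomial.modByMonic_add_div P χ₀]
  rw [map_add, map_mul, h2, zero_mul, add_zero]

/-- the set `F₀[M]` -/
def ao_B_alg (σ : F ≃+* F) (M : Matrix m m F) : Set (Matrix m m F) :=
  Set.range (fun P : (ao_B_fix σ)[X] => Polynomial.aeval M P)

theorem ao_B_card_alg [Finite F] (σ : F ≃+* F) (M : Matrix m m F)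
    (hM : M.charpoly.map (σ : F →+* F) = M.charpoly) :
    (ao_B_alg σ M).ncard ≤ Nat.card {x : F // σ x = x} ^ Fintype.card m := by
  obtain ⟨χ₀, h1, h2, h3⟩ := ao_B_exists_lift σ M hM
  have h4 : Function.Surjective
      (fun P : Polynomial.degreeLT (ao_B_fix σ) (Fintype.card m) =>
        (⟨Polynomial.aeval M P.1, ⟨P.1, rfl⟩⟩ : ao_B_alg σ M)) := by
    rintro ⟨A, P, rfl⟩
    refine ⟨⟨P %ₘ χ₀, ?_⟩, ?_⟩
    · rw [Polynomial.mem_degreeLT, ← h3]
      exact Polynomial.degree_modByMonic_lt P h2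
    · apply Subtype.ext
      exact (ao_B_aeval_mod σ M χ₀ h1 P).symm
  have h6 : Nat.card (Polynomial.degreeLT (ao_B_fix σ) (Fintype.card m)) =
      Nat.card {x : F // σ x = x} ^ Fintype.card m := by
    rw [Nat.card_congr (Polynomial.degreeLTEquiv (ao_B_fix σ) (Fintype.card m)).toEquiv,
      Nat.card_fun, Nat.card_eq_fintype_card (α := Fin _), Fintype.card_fin, ao_B_card_fix]
  have : Finite (Polynomial.degreeLT (ao_B_fix σ) (Fintype.card m)) :=
    Finite.of_equiv _ (Polynomial.degreeLTEquiv (ao_B_fix σ) (Fintype.card m)).toEquiv.symm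
  have h5 := Nat.card_le_card_of_surjective _ h4
  rw [← h6, ← Nat.card_coe_set_eq]
  exact h5

theorem ao_B_smul_pow_mem (σ : F ≃+* F) (M : Matrix m m F) (c : ao_B_fix σ) (i : ℕ) :
    (c : F) • M ^ i ∈ ao_B_alg σ M := by
  refine ⟨Polynomial.C c * Polynomial.X ^ i, ?_⟩
  show Polynomial.aeval M (Polynomial.C c * Polynomial.X ^ i) = _
  rw [map_mul, Polynomial.aeval_C, map_pow, Polynomial.aeval_X, Algebra.algebraMap_eq_smul_one,
    smul_mul_assoc, one_mul]
  rfl

theorem ao_B_zero_mem (σ : F ≃+* F) (M : Matrix m m F) : (0 : Matrix m m F) ∈ ao_B_alg σ M :=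
  ⟨0, by show Polynomial.aeval M (0 : (ao_B_fix σ)[X]) = 0; rw [map_zero]⟩

theorem ao_B_inj_aux [Nonempty m] (σ : F ≃+* F) (y : GL m F) (n : ℕ)
    (hmin : ∀ k, 0 < k → k < n →
      ¬ ∃ c : F, σ c = c ∧ c ≠ 0 ∧ ((y ^ k : GL m F) : Matrix m m F) = c • (1 : Matrix m m F))
    (i j : ℕ) (hj : j < n) (hij : i ≤ j) (c c' : F) (hc : σ c = c) (hc' : σ c' = c')
    (hc0 : c ≠ 0) (hc0' : c' ≠ 0)
    (h : c • ((y ^ i : GL m F) : Matrix m m F) = c' • ((y ^ j : GL m F) : Matrix m m F)) :
    i = j ∧ c = c' := by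
  obtain ⟨k, rfl⟩ := Nat.exists_eq_add_of_le hij
  have h1 : (((y ^ i)⁻¹ : GL m F) : Matrix m m F) * ((y ^ i : GL m F) : Matrix m m F) = 1 := by
    rw [← Units.val_mul, inv_mul_cancel, Units.val_one]
  have h2 : c • (1 : Matrix m m F) = c' • ((y ^ k : GL m F) : Matrix m m F) := by
    have h3 := congrArg (fun A => (((y ^ i)⁻¹ : GL m F) : Matrix m m F) * A) h
    simp only [pow_add, Units.val_mul, Matrix.mul_smul, ← Matrix.mul_assoc, h1, Matrix.one_mul] at h3
    exact h3
  have h4 : ((y ^ k : GL m F) : Matrix m m F) = (c'⁻¹ * c) • (1 : Matrix m m F) := by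
    rw [mul_smul, h2, smul_smul, inv_mul_cancel₀ hc0', one_smul]
  have hk : k = 0 := by
    by_contra hk
    refine hmin k (Nat.pos_of_ne_zero hk) (by omega) ⟨c'⁻¹ * c, ?_, ?_, h4⟩
    · rw [map_mul, map_inv₀, hc, hc']
    · exact mul_ne_zero (inv_ne_zero hc0') hc0
  subst hk
  refine ⟨rfl, ?_⟩
  rw [pow_zero, Units.val_one] at h2
  obtain ⟨a⟩ := (inferInstance : Nonempty m)
  have h5 := congrFun (congrFun h2 a) a
  simpa using h5

/-- **Case 1 core, matrix form.** -/
theorem ao_B_core [Finite F] [Nonempty m] (σ : F ≃+* F) (y : GL m F)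
    (hy : (y : Matrix m m F).charpoly.map (σ : F →+* F) = (y : Matrix m m F).charpoly) :
    ∃ n : ℕ, 0 < n ∧
      (Nat.card {x : F // σ x = x} - 1) * n ≤ Nat.card {x : F // σ x = x} ^ Fintype.card m - 1 ∧
      ∃ c : F, σ c = c ∧ c ≠ 0 ∧ ((y ^ n : GL m F) : Matrix m m F) = c • (1 : Matrix m m F) := by
  classical
  have hex : ∃ n : ℕ, 0 < n ∧
      ∃ c : F, σ c = c ∧ c ≠ 0 ∧ ((y ^ n : GL m F) : Matrix m m F) = c • (1 : Matrix m m F) := by
    refine ⟨orderOf y, orderOf_pos y, 1, map_one σ, one_ne_zero, ?_⟩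
    rw [pow_orderOf_eq_one, Units.val_one, one_smul]
  refine ⟨Nat.find hex, (Nat.find_spec hex).1, ?_, (Nat.find_spec hex).2⟩
  have hmin : ∀ k, 0 < k → k < Nat.find hex →
      ¬ ∃ c : F, σ c = c ∧ c ≠ 0 ∧ ((y ^ k : GL m F) : Matrix m m F) = c • (1 : Matrix m m F) :=
    fun k hk0 hk h => Nat.find_min hex hk ⟨hk0, h⟩
  set n := Nat.find hex with hn
  set M : Matrix m m F := (y : Matrix m m F) with hMdef
  -- the injection
  let f : Fin n × (ao_B_fix σ)ˣ → Matrix m m F :=
    fun x => (((x.2 : ao_B_fix σ) : F)) • ((y ^ (x.1 : ℕ) : GL m F) : Matrix m m F)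
  have hf : Function.Injective f := by
    rintro ⟨i, c⟩ ⟨j, c'⟩ h
    have hc : σ ((c : ao_B_fix σ) : F) = ((c : ao_B_fix σ) : F) := (c : ao_B_fix σ).2
    have hc' : σ ((c' : ao_B_fix σ) : F) = ((c' : ao_B_fix σ) : F) := (c' : ao_B_fix σ).2
    have hc0 : ((c : ao_B_fix σ) : F) ≠ 0 := fun h0 => c.ne_zero (Subtype.ext h0)
    have hc0' : ((c' : ao_B_fix σ) : F) ≠ 0 := fun h0 => c'.ne_zero (Subtype.ext h0)
    rcases le_total (i : ℕ) (j : ℕ) with hij | hij
    · obtain ⟨e1, e2⟩ := ao_B_inj_aux σ y n hmin i j j.2 hij _ _ hc hc' hc0 hc0' h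
      exact Prod.ext (Fin.ext e1) (Units.ext (Subtype.ext e2))
    · obtain ⟨e1, e2⟩ := ao_B_inj_aux σ y n hmin j i i.2 hij _ _ hc' hc hc0' hc0 h.symm
      exact Prod.ext (Fin.ext e1.symm) (Units.ext (Subtype.ext e2.symm))
  have hrange : Set.range f ⊆ ao_B_alg σ M \ {0} := by
    rintro _ ⟨⟨i, c⟩, rfl⟩
    refine ⟨?_, ?_⟩
    · have := ao_B_smul_pow_mem σ M (c : ao_B_fix σ) (i : ℕ)
      rwa [hMdef, ← Units.val_pow_eq_pow_val] at this
    · intro h0
      rw [Set.mem_singleton_iff] at h0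
      have hc0 : ((c : ao_B_fix σ) : F) ≠ 0 := fun h0 => c.ne_zero (Subtype.ext h0)
      have h1 : ((y ^ (i : ℕ) : GL m F) : Matrix m m F) = 0 := by
        have := congrArg (fun A => (((c : ao_B_fix σ) : F))⁻¹ • A) h0
        simpa [f, smul_smul, inv_mul_cancel₀ hc0] using this
      have h2 : (((y ^ (i : ℕ))⁻¹ : GL m F) : Matrix m m F) * ((y ^ (i : ℕ) : GL m F) : Matrix m m F) = 1 := by
        rw [← Units.val_mul, inv_mul_cancel, Units.val_one]
      rw [h1, Matrix.mul_zero] at h2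
      exact zero_ne_one h2
  have hfin : (ao_B_alg σ M).Finite := Set.toFinite _
  have h1 : (Set.range f).ncard = n * (Nat.card {x : F // σ x = x} - 1) := by
    rw [← Set.image_univ, Set.ncard_image_of_injective _ hf, Set.ncard_univ, Nat.card_prod,
      Nat.card_eq_fintype_card (α := Fin n), Fintype.card_fin, Nat.card_units, ao_B_card_fix]
  have h2 : (Set.range f).ncard ≤ (ao_B_alg σ M \ {0}).ncard :=
    Set.ncard_le_ncard hrange (hfin.subset Set.sdiff_subset)
  have h3 : (ao_B_alg σ M \ {0}).ncard = (ao_B_alg σ M).ncard - 1 :=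
    Set.ncard_sdiff_singleton_of_mem (ao_B_zero_mem σ M)
  have h4 := ao_B_card_alg σ M hy
  rw [mul_comm]
  omega

open Cfsg.Agent.Helper8.AutSLn

/-- a scalar matrix induces the trivial automorphism of `PSL` -/
theorem ao_B_pslConj_scalar [Nontrivial m] (g : GL m F) (c : F)
    (h : (g : Matrix m m F) = c • (1 : Matrix m m F)) :
    (pslConj g : MulAut (ProjectiveSpecialLinearGroup m F)) = 1 := by
  have h1 : g ∈ (pslConj : GL m F →* MulAut (ProjectiveSpecialLinearGroup m F)).ker := by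
    rw [ker_pslConj, Subgroup.mem_center_iff]
    intro k
    apply Units.ext
    rw [Units.val_mul, Units.val_mul, h, Matrix.mul_smul, Matrix.smul_mul, Matrix.mul_one,
      Matrix.one_mul]
  exact h1

/-- **Case 1 core, `PSL` form (characteristic polynomial hypothesis).** -/
theorem ao_B_order_le [Finite F] [Nontrivial m] (σ : F ≃+* F) (y : GL m F)
    (hy : (y : Matrix m m F).charpoly.map (σ : F →+* F) = (y : Matrix m m F).charpoly) :
    (Nat.card {x : F // σ x = x} - 1) *
        orderOf (pslConj y : MulAut (ProjectiveSpecialLinearGroup m F)) ≤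
      Nat.card {x : F // σ x = x} ^ Fintype.card m - 1 := by
  obtain ⟨n, hn0, hn, c, -, -, hc⟩ := ao_B_core σ y hy
  have h1 : (pslConj y : MulAut (ProjectiveSpecialLinearGroup m F)) ^ n = 1 := by
    rw [← map_pow]
    exact ao_B_pslConj_scalar _ c hc
  have h2 : orderOf (pslConj y : MulAut (ProjectiveSpecialLinearGroup m F)) ≤ n :=
    Nat.le_of_dvd hn0 (orderOf_dvd_of_pow_eq_one h1)
  exact le_trans (Nat.mul_le_mul_left _ h2) hn

/-- the characteristic polynomial condition from `σ(y) = g⁻¹ y g` -/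
theorem ao_B_charpoly_of_conj (σ : F ≃+* F) (y g : GL m F)
    (hy : Matrix.GeneralLinearGroup.map (σ : F →+* F) y = g⁻¹ * y * g) :
    (y : Matrix m m F).charpoly.map (σ : F →+* F) = (y : Matrix m m F).charpoly := by
  have h1 : ((Matrix.GeneralLinearGroup.map (σ : F →+* F) y : GL m F) : Matrix m m F) =
      (y : Matrix m m F).map (σ : F →+* F) := rfl
  rw [← Matrix.charpoly_map, ← h1, hy, Units.val_mul, Units.val_mul]
  have h2 := Matrix.charpoly_units_conj (g⁻¹ : GL m F) (y : Matrix m m F)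
  rw [← Matrix.coe_units_inv, inv_inv] at h2
  exact h2

/-- **Case 1 core, `PSL` form (the shape of the blueprint).** -/
theorem ao_B_order_le_of_conj [Finite F] [Nontrivial m] (σ : F ≃+* F) (y g : GL m F)
    (hy : Matrix.GeneralLinearGroup.map (σ : F →+* F) y = g⁻¹ * y * g) :
    (Nat.card {x : F // σ x = x} - 1) *
        orderOf (pslConj y : MulAut (ProjectiveSpecialLinearGroup m F)) ≤
      Nat.card {x : F // σ x = x} ^ Fintype.card m - 1 :=
  ao_B_order_le σ y (ao_B_charpoly_of_conj σ y g hy)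

/-- `PSL_1` is trivial -/
theorem ao_B_subsingleton_psl_one :
    Subsingleton (ProjectiveSpecialLinearGroup (Fin 1) F) := by
  have h1 : Subsingleton (SpecialLinearGroup (Fin 1) F) := by
    refine ⟨fun A B => ?_⟩
    apply Subtype.ext
    ext i j
    have hA := A.2
    have hB := B.2
    rw [Matrix.det_fin_one] at hA hB
    rw [Subsingleton.elim i 0, Subsingleton.elim j 0, hA, hB]
  refine ⟨fun x y => ?_⟩
  induction x using QuotientGroup.induction_on with
  | H a =>
    induction y using QuotientGroup.induction_on with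
    | H b => rw [Subsingleton.elim a b]

/-- **[B] in the shape of the architect's stub `ao_case1_core`** (`ao_q0 σ` unfolds to
`Nat.card {x : F // σ x = x}`). -/
theorem ao_B_case1_core [Fintype F] {d : ℕ} (hd : 1 ≤ d) (σ : F ≃+* F) (g y : GL (Fin d) F)
    (hy : Matrix.GeneralLinearGroup.map (σ : F →+* F) y = g⁻¹ * y * g) :
    (Nat.card {x : F // σ x = x} - 1) *
        orderOf (pslConj y : MulAut (ProjectiveSpecialLinearGroup (Fin d) F)) ≤
      Nat.card {x : F // σ x = x} ^ d - 1 := by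
  rcases Nat.lt_or_ge d 2 with h2 | h2
  · obtain rfl : d = 1 := by omega
    have := ao_B_subsingleton_psl_one (F := F)
    have h3 : (pslConj y : MulAut (ProjectiveSpecialLinearGroup (Fin 1) F)) = 1 := by
      ext x
      exact Subsingleton.elim _ _
    rw [h3, orderOf_one, mul_one, pow_one]
  · have : Nontrivial (Fin d) := Fin.nontrivial_iff_two_le.mpr h2
    have h3 := ao_B_order_le_of_conj σ y g hy
    rwa [Fintype.card_fin] at h3

/-- **[B], the architect's stub `ao_case1_core` verbatim.** -/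
theorem ao_case1_core {F : Type*} [Field F] [Fintype F] {d : ℕ} (hd : 1 ≤ d) (σ : F ≃+* F)
    (g y : GL (Fin d) F)
    (hy : Matrix.GeneralLinearGroup.map (σ : F →+* F) y = g⁻¹ * y * g) :
    (ao_q0 σ - 1) * orderOf (pslConj y) ≤ ao_q0 σ ^ d - 1 :=
  ao_B_case1_core hd σ g y hy

end Cfsg.Agent.AutOrd
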