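import Mathlib

/-!
# AutOrd / Num : the numerical inequalities for S2262 (largest element order of `Aut(PSL_d(q))`)

`ao_S a d = ∑_{i<d} a^i`, so that `(a-1) * ao_S a d = a^d - 1`.
-/

set_option autoImplicit false

namespace Cfsg.Agent.AutOrd

open Finset

/-- `S_a(d) = 1 + a + ... + a^(d-1)`. -/
def ao_S (a d : ℕ) : ℕ := ∑ i ∈ Finset.range d, a ^ i

theorem ao_S_zero (a : ℕ) : ao_S a 0 = 0 := by simp [ao_S]

theorem ao_S_succ (a d : ℕ) : ao_S a (d + 1) = ao_S a d + a ^ d := by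
  simp [ao_S, Finset.sum_range_succ]

theorem ao_S_one (a : ℕ) : ao_S a 1 = 1 := by simp [ao_S]

theorem ao_S_two (a : ℕ) : ao_S a 2 = 1 + a := by
  simp [ao_S, Finset.sum_range_succ]

theorem ao_S_three (a : ℕ) : ao_S a 3 = 1 + a + a ^ 2 := by
  simp [ao_S, Finset.sum_range_succ]

/-- `(a-1) * S_a(d) + 1 = a^d` (subtraction free for `1 ≤ a`). -/
theorem ao_S_mul_add_one (a d : ℕ) (ha : 1 ≤ a) : (a - 1) * ao_S a d + 1 = a ^ d := by
  induction d with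
  | zero => simp [ao_S]
  | succ d ih =>
    rw [ao_S_succ, Nat.mul_add, pow_succ]
    obtain ⟨b, rfl⟩ : ∃ b, a = b + 1 := ⟨a - 1, by omega⟩
    simp only [Nat.add_sub_cancel] at ih ⊢
    nlinarith [ih]

/-- `(a-1) * S_a(d) = a^d - 1`. -/
theorem ao_S_mul (a d : ℕ) (ha : 1 ≤ a) : (a - 1) * ao_S a d = a ^ d - 1 := by
  have := ao_S_mul_add_one a d ha
  omega

theorem ao_S_pos (a d : ℕ) (hd : 1 ≤ d) : 1 ≤ ao_S a d := by
  obtain ⟨k, rfl⟩ : ∃ k, d = k + 1 := ⟨d - 1, by omega⟩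
  clear hd
  induction k with
  | zero => simp [ao_S]
  | succ k ih => rw [ao_S_succ]; omega

/-- `e ≤ 2^(e-1)` for `1 ≤ e`. -/
theorem ao_num_le_two_pow_pred (e : ℕ) (he : 1 ≤ e) : e ≤ 2 ^ (e - 1) := by
  have := Nat.lt_two_pow_self (n := e - 1)
  omega

/-- the increment inequality for (I1): `e * a^d ≤ (a^e)^d` for `a ≥ 2`, `e ≥ 1`, `d ≥ 1`. -/
theorem ao_num_step1 (a e d : ℕ) (ha : 2 ≤ a) (he : 1 ≤ e) (hd : 1 ≤ d) :
    e * a ^ d ≤ (a ^ e) ^ d := by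
  obtain ⟨k, rfl⟩ : ∃ k, e = k + 1 := ⟨e - 1, by omega⟩
  have h1 : (a ^ (k + 1)) ^ d = a ^ d * (a ^ d) ^ k := by
    rw [← pow_mul, ← pow_mul, ← pow_add]; ring_nf
  rw [h1, Nat.mul_comm]
  apply Nat.mul_le_mul_left
  have h2 : k + 1 ≤ 2 ^ k := by
    have := ao_num_le_two_pow_pred (k + 1) (by omega); simpa using this
  have h3 : 2 ≤ a ^ d := by
    calc 2 ≤ a := ha
      _ = a ^ 1 := (pow_one a).symm
      _ ≤ a ^ d := Nat.pow_le_pow_right (by omega) hd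
  calc k + 1 ≤ 2 ^ k := h2
    _ ≤ (a ^ d) ^ k := Nat.pow_le_pow_left h3 k

/-- base case of (I1) at `d = 2`: `e (a+1) ≤ a^e + 1` unless `(a,e) = (2,2)`. -/
theorem ao_num_base1 (a e : ℕ) (ha : 2 ≤ a) (he : 1 ≤ e) (hex : ¬ (a = 2 ∧ e = 2)) :
    e * (a + 1) ≤ a ^ e + 1 := by
  rcases Nat.lt_or_ge e 3 with h3 | h3
  · interval_cases e
    · simp
    · have : a ≠ 2 := fun h => hex ⟨h, rfl⟩
      have h3a : 3 ≤ a := by omega
      nlinarith [h3a]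
  · -- e ≥ 3 : induction
    induction e, h3 using Nat.le_induction with
    | base =>
      have : (a - 2) * (a + 1) ^ 2 + 3 * (a + 1) = a ^ 3 + 1 := by
        obtain ⟨b, rfl⟩ : ∃ b, a = b + 2 := ⟨a - 2, by omega⟩
        simp only [Nat.add_sub_cancel]; ring
      nlinarith [this, Nat.zero_le ((a - 2) * (a + 1) ^ 2)]
    | succ e h3e ih =>
      have ih' := ih (by omega) (by omega)
      have hae : 4 ≤ a ^ e := by
        calc 4 = 2 ^ 2 := by norm_num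
          _ ≤ a ^ 2 := Nat.pow_le_pow_left ha 2
          _ ≤ a ^ e := Nat.pow_le_pow_right (by omega) (by omega)
      rw [pow_succ]
      nlinarith [ih', hae, ha]

/-- **(I1)** `e * S_a(d) ≤ S_{a^e}(d)` for `a ≥ 2`, `e ≥ 1`, `d ≥ 2`, except `(d,a,e) = (2,2,2)`. -/
theorem ao_num_I1 (a e d : ℕ) (ha : 2 ≤ a) (he : 1 ≤ e) (hd : 2 ≤ d)
    (hex : ¬ (d = 2 ∧ a = 2 ∧ e = 2)) : e * ao_S a d ≤ ao_S (a ^ e) d := by
  by_cases h22 : a = 2 ∧ e = 2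
  · obtain ⟨rfl, rfl⟩ := h22
    have hd3 : 3 ≤ d := by
      rcases Nat.lt_or_ge d 3 with h | h
      · exact absurd ⟨by omega, rfl, rfl⟩ hex
      · exact h
    induction d, hd3 using Nat.le_induction with
    | base => simp [ao_S_three]
    | succ d hd3 ih =>
      rw [ao_S_succ, ao_S_succ, Nat.mul_add]
      have := ao_num_step1 2 2 d (by norm_num) (by norm_num) (by omega)
      have ih' := ih (by omega) (by rintro ⟨h, -⟩; omega)
      omega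
  · induction d, hd using Nat.le_induction with
    | base =>
      rw [ao_S_two, ao_S_two]
      have := ao_num_base1 a e ha he h22
      linarith
    | succ d hd ih =>
      rw [ao_S_succ, ao_S_succ, Nat.mul_add]
      have := ao_num_step1 a e d ha he (by omega)
      have ih' := ih (by rintro ⟨-, h⟩; exact h22 h)
      omega

/-- the increment inequality for (I2): `2 e a^d ≤ (a^e)^d` for `a ≥ 2`, `e ≥ 2`, `d ≥ 3`. -/
theorem ao_num_step2 (a e d : ℕ) (ha : 2 ≤ a) (he : 2 ≤ e) (hd : 3 ≤ d) :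
    2 * e * a ^ d ≤ (a ^ e) ^ d := by
  obtain ⟨k, rfl⟩ : ∃ k, e = k + 1 := ⟨e - 1, by omega⟩
  have h1 : (a ^ (k + 1)) ^ d = a ^ d * (a ^ d) ^ k := by
    rw [← pow_mul, ← pow_mul, ← pow_add]; ring_nf
  rw [h1, Nat.mul_comm]
  apply Nat.mul_le_mul_left
  have h3 : 8 ≤ a ^ d := by
    calc 8 = 2 ^ 3 := by norm_num
      _ ≤ a ^ 3 := Nat.pow_le_pow_left ha 3
      _ ≤ a ^ d := Nat.pow_le_pow_right (by omega) hd
  have h2 : 2 * (k + 1) ≤ 8 ^ k := by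
    have hk : 1 ≤ k := by omega
    clear h1 he
    induction k, hk using Nat.le_induction with
    | base => norm_num
    | succ k hk ih => rw [pow_succ]; omega
  calc 2 * (k + 1) ≤ 8 ^ k := h2
    _ ≤ (a ^ d) ^ k := Nat.pow_le_pow_left h3 k

/-- base case of (I2) at `d = 3`. -/
theorem ao_num_base2 (a e : ℕ) (ha : 2 ≤ a) (he : 2 ≤ e) (hex : ¬ (a = 2 ∧ e = 2)) :
    2 * e * (1 + a + a ^ 2) ≤ 1 + a ^ e + (a ^ e) ^ 2 := by
  rcases Nat.lt_or_ge e 3 with h3 | h3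
  · have he2 : e = 2 := by omega
    subst he2
    have : a ≠ 2 := fun h => hex ⟨h, rfl⟩
    have h3a : 3 ≤ a := by omega
    have h9 : 9 ≤ a ^ 2 := by nlinarith
    nlinarith [h3a, h9, sq_nonneg (a ^ 2)]
  · -- e ≥ 3: 2e(1+a+a^2) ≤ 4 e a^2 ≤ a^(2e)
    have h1 : 1 + a + a ^ 2 ≤ 2 * a ^ 2 := by nlinarith
    have h2 : 4 * e ≤ (a ^ 2) ^ (e - 1) := by
      have h4 : 4 ≤ a ^ 2 := by nlinarith
      have h5 : 4 * e ≤ 4 ^ (e - 1) := by
        obtain ⟨k, rfl⟩ : ∃ k, e = k + 3 := ⟨e - 3, by omega⟩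
        simp only [show k + 3 - 1 = k + 2 by omega]
        induction k with
        | zero => norm_num
        | succ k ih =>
          have := ih (by omega) (by omega)
          rw [show k + 1 + 2 = (k + 2) + 1 by ring, pow_succ]; omega
      calc 4 * e ≤ 4 ^ (e - 1) := h5
        _ ≤ (a ^ 2) ^ (e - 1) := Nat.pow_le_pow_left h4 _
    have h3' : (a ^ e) ^ 2 = a ^ 2 * (a ^ 2) ^ (e - 1) := by
      rw [← pow_mul, ← pow_mul, ← pow_add]
      congr 1; omega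
    calc 2 * e * (1 + a + a ^ 2) ≤ 2 * e * (2 * a ^ 2) := Nat.mul_le_mul_left _ h1
      _ = a ^ 2 * (4 * e) := by ring
      _ ≤ a ^ 2 * (a ^ 2) ^ (e - 1) := Nat.mul_le_mul_left _ h2
      _ = (a ^ e) ^ 2 := h3'.symm
      _ ≤ 1 + a ^ e + (a ^ e) ^ 2 := by omega

/-- **(I2)** `2 e * S_a(d) ≤ S_{a^e}(d)` for `a ≥ 2`, `e ≥ 2`, `d ≥ 3`, except `(a,e) = (2,2)`. -/
theorem ao_num_I2 (a e d : ℕ) (ha : 2 ≤ a) (he : 2 ≤ e) (hd : 3 ≤ d)
    (hex : ¬ (a = 2 ∧ e = 2)) : 2 * e * ao_S a d ≤ ao_S (a ^ e) d := by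
  induction d, hd using Nat.le_induction with
  | base =>
    rw [ao_S_three, ao_S_three]
    exact ao_num_base2 a e ha he hex
  | succ d hd ih =>
    rw [ao_S_succ, ao_S_succ, Nat.mul_add]
    have := ao_num_step2 a e d ha he hd
    omega

/-- `2 (q^2 - 1) ≤ q^d - 1` for `q ≥ 2`, `d ≥ 3`. -/
theorem ao_num_sq (q d : ℕ) (hq : 2 ≤ q) (hd : 3 ≤ d) : 2 * (q ^ 2 - 1) ≤ q ^ d - 1 := by
  have h1 : q ^ 3 ≤ q ^ d := Nat.pow_le_pow_right (by omega) hd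
  have h2 : 2 * q ^ 2 ≤ q ^ 3 := by
    rw [pow_succ q 2]; nlinarith
  have h3 : 4 ≤ q ^ 2 := by nlinarith
  omega

/-- binomial estimate: `(m+1)^n ≥ m^n + n m^(n-1) + 1` for `n ≥ 2`. -/
theorem ao_num_binom_aux (m n : ℕ) (hn : 2 ≤ n) :
    m ^ n + n * m ^ (n - 1) + 1 ≤ (m + 1) ^ n := by
  induction n, hn using Nat.le_induction with
  | base => simp only [Nat.add_one_sub_one]; ring_nf; omega
  | succ n hn ih =>
    obtain ⟨k, rfl⟩ : ∃ k, n = k + 1 := ⟨n - 1, by omega⟩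
    simp only [Nat.add_sub_cancel] at ih ⊢
    have e1 : (m + 1) ^ (k + 1 + 1) = (m + 1) * (m + 1) ^ (k + 1) := by ring
    rw [e1]
    have : (m + 1) * (m ^ (k + 1) + (k + 1) * m ^ k + 1) ≤ (m + 1) * (m + 1) ^ (k + 1) :=
      Nat.mul_le_mul_left _ ih
    refine le_trans ?_ this
    have e2 : m ^ (k + 1 + 1) = m * m ^ (k + 1) := by ring
    have e3 : m ^ (k + 1) = m * m ^ k := by ring
    rw [e2]
    nlinarith [Nat.zero_le (m ^ k), Nat.zero_le m, Nat.zero_le (k * m ^ k)]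

/-- **binomial** `2 (q-1)^(q-1) + 1 ≤ q^(q-1)` for `q ≥ 3`. -/
theorem ao_num_binom (q : ℕ) (hq : 3 ≤ q) : 2 * (q - 1) ^ (q - 1) + 1 ≤ q ^ (q - 1) := by
  obtain ⟨m, rfl⟩ : ∃ m, q = m + 1 := ⟨q - 1, by omega⟩
  simp only [Nat.add_sub_cancel]
  have h := ao_num_binom_aux m m (by omega)
  have e : m * m ^ (m - 1) = m ^ m := by
    obtain ⟨k, rfl⟩ : ∃ k, m = k + 1 := ⟨m - 1, by omega⟩
    simp only [Nat.add_sub_cancel]; ring
  rw [e] at h
  omega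

/-- the least power of two `≥ d` is at most `2 (d-1)` (for `d ≥ 2`). -/
theorem ao_num_two_pow (d : ℕ) (hd : 2 ≤ d) : ∃ a : ℕ, d ≤ 2 ^ a ∧ 2 ^ a ≤ 2 * (d - 1) := by
  refine ⟨Nat.clog 2 d, Nat.le_pow_clog (by norm_num) d, ?_⟩
  have h1 : 2 ^ (Nat.clog 2 d).pred < d := Nat.pow_pred_clog_lt_self (by norm_num) (by omega)
  have hpos : 0 < Nat.clog 2 d := Nat.clog_pos (by norm_num) hd
  obtain ⟨k, hk⟩ : ∃ k, Nat.clog 2 d = k + 1 := ⟨Nat.clog 2 d - 1, by omega⟩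
  rw [hk] at h1 ⊢
  simp only [Nat.pred_succ] at h1
  rw [pow_succ]; omega

/-- `2 (d-1) ≤ 2^(d-1) - 1` for `d ≥ 4`. -/
theorem ao_num_two_pow_le (d : ℕ) (hd : 4 ≤ d) : 2 * (d - 1) ≤ 2 ^ (d - 1) - 1 := by
  obtain ⟨k, rfl⟩ : ∃ k, d = k + 4 := ⟨d - 4, by omega⟩
  simp only [show k + 4 - 1 = k + 3 by omega]
  have : 2 * (k + 3) + 1 ≤ 2 ^ (k + 3) := by
    induction k with
    | zero => norm_num
    | succ k ih => rw [show k + 1 + 3 = (k + 3) + 1 by ring, pow_succ]; omega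
  omega

/-- combined: for `d ≥ 4` some `2^a ≥ d` has `2^a ≤ 2^(d-1) - 1`. -/
theorem ao_num_two_pow' (d : ℕ) (hd : 4 ≤ d) : ∃ a : ℕ, d ≤ 2 ^ a ∧ 2 ^ a ≤ 2 ^ (d - 1) - 1 := by
  obtain ⟨a, h1, h2⟩ := ao_num_two_pow d (by omega)
  exact ⟨a, h1, le_trans h2 (ao_num_two_pow_le d hd)⟩

end Cfsg.Agent.AutOrd
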