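import Mathlib
import Cfsg.Agent.AutOrd.Num

/-!
# AutOrd / Count : polynomials of degree `< d` with no zero in `Fˣ`

For a finite field `F` with `q` elements and `q - 1 ≤ d`, the number of polynomials
`P ∈ F[X]` with `deg P < d` and `P(μ) ≠ 0` for all `μ ≠ 0` is at most
`(q-1)^(q-1) * q^(d-(q-1))`; consequently (for `q ≥ 3`) twice that number is `< q^d`.
-/

set_option autoImplicit false

namespace Cfsg.Agent.AutOrd

open Polynomial

variable {F : Type*} [Field F] [Fintype F]

/-- the polynomials of degree `< d` that vanish nowhere on `Fˣ`. -/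
def ao_cnt_T (F : Type*) [Field F] (d : ℕ) : Type _ :=
  {P : F[X] // P.degree < d ∧ ∀ μ : F, μ ≠ 0 → P.eval μ ≠ 0}

/-- a polynomial of degree `< q - 1` vanishing on all of `Fˣ` is zero. -/
theorem ao_cnt_eq_zero_of_vanish (D : F[X]) (hdeg : D.degree < ((Fintype.card F - 1 : ℕ) : WithBot ℕ))
    (hev : ∀ μ : F, μ ≠ 0 → D.eval μ = 0) : D = 0 := by
  classical
  refine Polynomial.eq_zero_of_degree_lt_of_eval_finset_eq_zero
    ((Finset.univ : Finset F).erase 0) ?_ ?_
  · rw [Finset.card_erase_of_mem (Finset.mem_univ _), Finset.card_univ]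
    exact hdeg
  · intro x hx
    exact hev x (Finset.ne_of_mem_erase hx)

/-- the injection `P ↦ (coefficients in degrees q-1 .. d-1, values on Fˣ)`. -/
noncomputable def ao_cnt_map (d : ℕ) (P : ao_cnt_T F d) :
    (Fin (d - (Fintype.card F - 1)) → F) × (Fˣ → Fˣ) :=
  (fun i => P.1.coeff (Fintype.card F - 1 + i), fun μ => Units.mk0 (P.1.eval (μ : F)) (P.2.2 _ μ.ne_zero))

theorem ao_cnt_map_injective (d : ℕ) : Function.Injective (ao_cnt_map (F := F) d) := by
  intro P Q hPQ
  apply Subtype.ext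
  have h1 : ∀ i : Fin (d - (Fintype.card F - 1)),
      P.1.coeff (Fintype.card F - 1 + i) = Q.1.coeff (Fintype.card F - 1 + i) := by
    intro i
    exact congrFun (congrArg Prod.fst hPQ) i
  have h2 : ∀ μ : Fˣ, P.1.eval (μ : F) = Q.1.eval (μ : F) := by
    intro μ
    have := congrFun (congrArg Prod.snd hPQ) μ
    simpa [ao_cnt_map, Units.ext_iff] using this
  have hD : P.1 - Q.1 = 0 := by
    apply ao_cnt_eq_zero_of_vanish
    · rw [Polynomial.degree_lt_iff_coeff_zero]
      intro m hm
      rw [Polynomial.coeff_sub]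
      by_cases hmd : m < d
      · have hi : m - (Fintype.card F - 1) < d - (Fintype.card F - 1) := by omega
        have := h1 ⟨m - (Fintype.card F - 1), hi⟩
        have e : Fintype.card F - 1 + (m - (Fintype.card F - 1)) = m := by omega
        simp only [e] at this
        rw [this, sub_self]
      · have hP : P.1.coeff m = 0 :=
          (Polynomial.degree_lt_iff_coeff_zero _ _).1 P.2.1 m (by omega)
        have hQ : Q.1.coeff m = 0 :=
          (Polynomial.degree_lt_iff_coeff_zero _ _).1 Q.2.1 m (by omega)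
        rw [hP, hQ, sub_self]
    · intro μ hμ
      rw [Polynomial.eval_sub]
      have := h2 (Units.mk0 μ hμ)
      simpa using sub_eq_zero.mpr this
  exact sub_eq_zero.mp hD

/-- **the count** (upper bound). -/
theorem ao_cnt_le (d : ℕ) :
    Nat.card (ao_cnt_T F d) ≤
      (Fintype.card F - 1) ^ (Fintype.card F - 1) * Fintype.card F ^ (d - (Fintype.card F - 1)) := by
  classical
  have h := Nat.card_le_card_of_injective _ (ao_cnt_map_injective (F := F) d)
  have hc : Nat.card ((Fin (d - (Fintype.card F - 1)) → F) × (Fˣ → Fˣ)) =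
      Fintype.card F ^ (d - (Fintype.card F - 1)) * (Fintype.card F - 1) ^ (Fintype.card F - 1) := by
    rw [Nat.card_eq_fintype_card, Fintype.card_prod, Fintype.card_fun, Fintype.card_fun,
      Fintype.card_fin, Fintype.card_units]
  rw [hc] at h
  rw [Nat.mul_comm]
  exact h

/-- the same bound for the subtype written out. -/
theorem ao_cnt_le' (d : ℕ) :
    Nat.card {P : F[X] // P.degree < d ∧ ∀ μ : F, μ ≠ 0 → P.eval μ ≠ 0} ≤
      (Fintype.card F - 1) ^ (Fintype.card F - 1) * Fintype.card F ^ (d - (Fintype.card F - 1)) :=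
  ao_cnt_le (F := F) d

/-- **consequence**: for `q ≥ 3` and `q - 1 ≤ d`, twice the count is less than `q^d`. -/
theorem ao_cnt_two_mul_lt (d : ℕ) (hq : 3 ≤ Fintype.card F) (hqd : Fintype.card F - 1 ≤ d) :
    2 * Nat.card {P : F[X] // P.degree < d ∧ ∀ μ : F, μ ≠ 0 → P.eval μ ≠ 0} + 1 ≤
      Fintype.card F ^ d := by
  have h := ao_cnt_le' (F := F) d
  set q := Fintype.card F with hqdef
  set m := q - 1 with hm
  set k := d - m with hk
  have hb := ao_num_binom q hq
  have hd : q ^ d = q ^ m * q ^ k := by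
    rw [← pow_add]; congr 1; omega
  have hk1 : 1 ≤ q ^ k := Nat.one_le_pow _ _ (by omega)
  rw [hd]
  calc 2 * Nat.card {P : F[X] // P.degree < d ∧ ∀ μ : F, μ ≠ 0 → P.eval μ ≠ 0} + 1
      ≤ 2 * (m ^ m * q ^ k) + 1 := by omega
    _ ≤ 2 * (m ^ m * q ^ k) + q ^ k := by omega
    _ = (2 * m ^ m + 1) * q ^ k := by ring
    _ ≤ q ^ m * q ^ k := Nat.mul_le_mul_right _ hb

/-- a version for any family of polynomials: if `u ↦ P u` is injective into the polynomials of
degree `< d` without zeros on `Fˣ`, then `2 |U| + 1 ≤ q^d`. -/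
theorem ao_cnt_two_mul_lt_of_injective {U : Type*} (d : ℕ) (hq : 3 ≤ Fintype.card F)
    (hqd : Fintype.card F - 1 ≤ d) (P : U → F[X]) (hinj : Function.Injective P)
    (hdeg : ∀ u, (P u).degree < d) (hev : ∀ u, ∀ μ : F, μ ≠ 0 → (P u).eval μ ≠ 0) :
    2 * Nat.card U + 1 ≤ Fintype.card F ^ d := by
  classical
  have hfin : Finite {P : F[X] // P.degree < d ∧ ∀ μ : F, μ ≠ 0 → P.eval μ ≠ 0} := by
    have : Finite (ao_cnt_T F d) := Finite.of_injective _ (ao_cnt_map_injective (F := F) d)
    exact this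
  have h1 : Nat.card U ≤ Nat.card {P : F[X] // P.degree < d ∧ ∀ μ : F, μ ≠ 0 → P.eval μ ≠ 0} := by
    refine Nat.card_le_card_of_injective (fun u => ⟨P u, hdeg u, hev u⟩) ?_
    intro u v huv
    exact hinj (congrArg Subtype.val huv)
  have h2 := ao_cnt_two_mul_lt (F := F) d hq hqd
  omega

end Cfsg.Agent.AutOrd
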