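import Mathlib
import Cfsg.Agent.AutOrd.Count

/-!
# AutOrd: the count of [F] applied to a matrix `z` all of whose nonzero scalars are eigenvalues

`ao_cnt_units_adjoin_le`: if `z - μ` is singular for every `μ ≠ 0` and `3 ≤ q`, then any family of
invertible matrices which are polynomials in `z` has at most `(q^d - 1)/2` members.
-/

namespace Cfsg.Agent.AutOrd

open Polynomial

variable {F : Type*} [Field F] [Fintype F]

/-- If every nonzero scalar is an eigenvalue of the `d × d` matrix `z`, then `q - 1 ≤ d`. -/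
theorem ao_cnt_card_sub_one_le {d : ℕ} (z : Matrix (Fin d) (Fin d) F)
    (hz : ∀ μ : F, μ ≠ 0 → (Matrix.scalar (Fin d) μ - z).det = 0) :
    Fintype.card F - 1 ≤ d := by
  classical
  have hroot : ∀ μ : F, μ ≠ 0 → (z.charpoly).IsRoot μ := by
    intro μ hμ
    rw [IsRoot, Matrix.eval_charpoly]
    exact hz μ hμ
  have hne : z.charpoly ≠ 0 := (Matrix.charpoly_monic z).ne_zero
  have h1 : (Finset.univ.filter (fun μ : F => μ ≠ 0)).card ≤ z.charpoly.natDegree := by
    calc (Finset.univ.filter (fun μ : F => μ ≠ 0)).card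
        ≤ z.charpoly.roots.toFinset.card := Finset.card_le_card (by
          intro μ hμ
          simp only [Finset.mem_filter, Finset.mem_univ, true_and] at hμ
          rw [Multiset.mem_toFinset, Polynomial.mem_roots hne]
          exact hroot μ hμ)
      _ ≤ Multiset.card z.charpoly.roots := Multiset.toFinset_card_le _
      _ ≤ _ := Polynomial.card_roots' _
  rw [Matrix.charpoly_natDegree_eq_dim, Fintype.card_fin] at h1
  have h2 : (Finset.univ.filter (fun μ : F => μ ≠ 0)).card = Fintype.card F - 1 := by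
    rw [Finset.filter_ne' Finset.univ (0 : F), Finset.card_erase_of_mem (Finset.mem_univ _),
      Finset.card_univ]
  omega

/-- The count of [F], applied: if `z - μ` is singular for all `μ ≠ 0` (form `scalar μ - z`),
`3 ≤ q`, and `f : U → M_d(F)` is an injective family of nonsingular matrices each of which is a
polynomial in `z`, then `2 |U| + 1 ≤ q ^ d`. -/
theorem ao_cnt_units_adjoin_le {d : ℕ} {U : Type*} (z : Matrix (Fin d) (Fin d) F)
    (hq : 3 ≤ Fintype.card F)
    (hz : ∀ μ : F, μ ≠ 0 → (Matrix.scalar (Fin d) μ - z).det = 0)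
    (f : U → Matrix (Fin d) (Fin d) F) (hf : Function.Injective f)
    (hdet : ∀ u, (f u).det ≠ 0)
    (hmem : ∀ u, ∃ P : F[X], aeval z P = f u) :
    2 * Nat.card U + 1 ≤ Fintype.card F ^ d := by
  classical
  choose P hP using hmem
  have hmon : z.charpoly.Monic := Matrix.charpoly_monic z
  have hR : ∀ u, aeval z (P u %ₘ z.charpoly) = f u := by
    intro u
    have h := Polynomial.modByMonic_add_div (P u) z.charpoly
    have h2 : aeval z (P u) = aeval z (P u %ₘ z.charpoly + z.charpoly * (P u /ₘ z.charpoly)) := by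
      rw [h]
    rw [map_add, map_mul, Matrix.aeval_self_charpoly, zero_mul, add_zero] at h2
    rw [← h2, hP u]
  refine ao_cnt_two_mul_lt_of_injective d hq (ao_cnt_card_sub_one_le z hz)
    (fun u => P u %ₘ z.charpoly) ?_ ?_ ?_
  · intro u v huv
    apply hf
    rw [← hR u, ← hR v]
    exact congrArg _ huv
  · intro u
    have h := Polynomial.degree_modByMonic_lt (P u) hmon
    rwa [Matrix.charpoly_degree_eq_dim, Fintype.card_fin] at h
  · intro u μ hμ h0
    have hdvd : (X - C μ) ∣ (P u %ₘ z.charpoly) := Polynomial.dvd_iff_isRoot.mpr h0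
    obtain ⟨Q, hQ⟩ := hdvd
    have h3 : f u = (z - Matrix.scalar (Fin d) μ) * aeval z Q := by
      rw [← hR u, hQ, map_mul, map_sub, aeval_X, aeval_C]
      rfl
    apply hdet u
    rw [h3, Matrix.det_mul]
    have h4 : (z - Matrix.scalar (Fin d) μ).det = 0 := by
      have h5 : z - Matrix.scalar (Fin d) μ = -(Matrix.scalar (Fin d) μ - z) := by
        rw [neg_sub]
      rw [h5, Matrix.det_neg, hz μ hμ, mul_zero]
    rw [h4, zero_mul]

/-- Variant of `ao_cnt_units_adjoin_le` with the hypothesis in the form `det (z - scalar μ) = 0`. -/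
theorem ao_cnt_units_adjoin_le' {d : ℕ} {U : Type*} (z : Matrix (Fin d) (Fin d) F)
    (hq : 3 ≤ Fintype.card F)
    (hz : ∀ μ : F, μ ≠ 0 → (z - Matrix.scalar (Fin d) μ).det = 0)
    (f : U → Matrix (Fin d) (Fin d) F) (hf : Function.Injective f)
    (hdet : ∀ u, (f u).det ≠ 0)
    (hmem : ∀ u, ∃ P : F[X], aeval z P = f u) :
    2 * Nat.card U + 1 ≤ Fintype.card F ^ d := by
  refine ao_cnt_units_adjoin_le z hq ?_ f hf hdet hmem
  intro μ hμ
  have h5 : Matrix.scalar (Fin d) μ - z = -(z - Matrix.scalar (Fin d) μ) := by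
    rw [neg_sub]
  rw [h5, Matrix.det_neg, hz μ hμ, mul_zero]

/-- Variant with the hypothesis `¬ IsUnit (algebraMap F _ μ + z)` for all `μ ≠ 0`
(the shape produced by the linear trick), and membership in `Algebra.adjoin F {z}`. -/
theorem ao_cnt_units_adjoin_le'' {d : ℕ} {U : Type*} (z : Matrix (Fin d) (Fin d) F)
    (hq : 3 ≤ Fintype.card F)
    (hz : ∀ μ : F, μ ≠ 0 → ¬ IsUnit (algebraMap F (Matrix (Fin d) (Fin d) F) μ + z))
    (f : U → Matrix (Fin d) (Fin d) F) (hf : Function.Injective f)
    (hdet : ∀ u, IsUnit (f u))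
    (hmem : ∀ u, f u ∈ Algebra.adjoin F {z}) :
    2 * Nat.card U + 1 ≤ Fintype.card F ^ d := by
  refine ao_cnt_units_adjoin_le z hq ?_ f hf ?_ ?_
  · intro μ hμ
    have h1 := hz (-μ) (neg_ne_zero.mpr hμ)
    rw [Matrix.isUnit_iff_isUnit_det, isUnit_iff_ne_zero, not_not] at h1
    have h5 : Matrix.scalar (Fin d) μ - z = -(algebraMap F (Matrix (Fin d) (Fin d) F) (-μ) + z) := by
      rw [map_neg, neg_add, neg_neg, sub_eq_add_neg]
      rfl
    rw [h5, Matrix.det_neg, h1, mul_zero]
  · intro u
    have h1 := hdet u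
    rw [Matrix.isUnit_iff_isUnit_det, isUnit_iff_ne_zero] at h1
    exact h1
  · intro u
    have h1 := hmem u
    rw [Algebra.adjoin_singleton_eq_range_aeval] at h1
    obtain ⟨P, hP⟩ := h1
    exact ⟨P, hP⟩

end Cfsg.Agent.AutOrd
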