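import Mathlib
import Cfsg.Agent.Helper8.AutSLnO
import Cfsg.Agent.S2261

set_option autoImplicit false

/-!
# S2262 (swarm "AutOrd"), piece [H]: an automorphism of `PSL_d(F)` of order `(q^d − 1)/(q − 1)` (helper9)

The image of a Singer cycle of `PGL_d(F)` (`S2261`) under the injective map `pslConjBar`.
-/

namespace Cfsg.Agent.AutOrd

open Matrix Cfsg.Agent.Helper8.AutSLn

theorem ao_H_exists {F : Type*} [Field F] [Fintype F] (d : ℕ) (hd : 2 ≤ d) :
    ∃ φ : MulAut (Matrix.ProjectiveSpecialLinearGroup (Fin d) F),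
      (Fintype.card F - 1) * orderOf φ = Fintype.card F ^ d - 1 := by
  have : Nontrivial (Fin d) := Fin.nontrivial_iff_two_le.mpr hd
  obtain ⟨g, hg⟩ := (Cfsg.Agent.S2261.result (F := F) d (by omega)).2
  let g' : Matrix.ProjGenLinGroup (Fin d) F := g
  refine ⟨pslConjBar g', ?_⟩
  have h : orderOf (pslConjBar g') = orderOf g' :=
    orderOf_injective (pslConjBar (m := Fin d) (F := F)) pslConjBar_injective g'
  rw [h]
  exact hg

end Cfsg.Agent.AutOrd
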