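import Mathlib

set_option autoImplicit false
open Matrix

namespace Cfsg.Agent.AutOrd

variable {F : Type*} [Field F] {d : ℕ}

/-!
# S2262 (swarm "AutOrd"): the linear trick of case (β-ii) (helper9)
-/

/-- An anti-multiplicative map fixing `1` sends powers to powers. -/
theorem ao_LT_pow (Θ : Matrix (Fin d) (Fin d) F → Matrix (Fin d) (Fin d) F)
    (hmul : ∀ a b, Θ (a * b) = Θ b * Θ a) (h1 : Θ 1 = 1) (a : Matrix (Fin d) (Fin d) F) (k : ℕ) :
    Θ (a ^ k) = Θ a ^ k := by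
  induction k with
  | zero => rw [pow_zero, pow_zero, h1]
  | succ k ih => rw [pow_succ, hmul, ih, pow_succ']

/-- THE LINEAR TRICK: if `1, z, z²` are linearly independent and `Θ` is additive, anti-multiplicative, `σ`-semilinear on
scalars with `Θ z = z⁻¹`, then `l + z` (`l ≠ 0`) is not of the form `ν z^k`. -/
theorem ao_LT_linear_trick (σ : F → F) (z : GL (Fin d) F)
    (Θ : Matrix (Fin d) (Fin d) F → Matrix (Fin d) (Fin d) F)
    (hadd : ∀ a b, Θ (a + b) = Θ a + Θ b) (hmul : ∀ a b, Θ (a * b) = Θ b * Θ a)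
    (hsc : ∀ c : F, Θ (c • (1 : Matrix (Fin d) (Fin d) F)) = σ c • (1 : Matrix (Fin d) (Fin d) F))
    (hz : Θ (z : Matrix (Fin d) (Fin d) F) = ((z⁻¹ : GL (Fin d) F) : Matrix (Fin d) (Fin d) F))
    (hind : ∀ c0 c1 c2 : F, c0 • (1 : Matrix (Fin d) (Fin d) F) + c1 • (z : Matrix (Fin d) (Fin d) F) +
      c2 • (z : Matrix (Fin d) (Fin d) F) ^ 2 = 0 → c0 = 0 ∧ c1 = 0 ∧ c2 = 0)
    (l : F) (hl : l ≠ 0) (ν : F) (k : ℕ) :
    l • (1 : Matrix (Fin d) (Fin d) F) + (z : Matrix (Fin d) (Fin d) F) ≠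
      ν • ((z ^ k : GL (Fin d) F) : Matrix (Fin d) (Fin d) F) := by
  intro h
  set Z := (z : Matrix (Fin d) (Fin d) F) with hZ
  set Zi := ((z⁻¹ : GL (Fin d) F) : Matrix (Fin d) (Fin d) F) with hZi
  have hZZi : Z * Zi = 1 := by rw [hZ, hZi, ← Units.val_mul, mul_inv_cancel, Units.val_one]
  have hZiZ : Zi * Z = 1 := by rw [hZ, hZi, ← Units.val_mul, inv_mul_cancel, Units.val_one]
  have h1 : Θ 1 = 1 := by
    have h5 : Θ Z = Θ Z * Θ 1 := by
      conv_lhs => rw [← Matrix.one_mul Z, hmul]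
    rw [hz] at h5
    have h6 : Z * Zi = Z * (Zi * Θ 1) := by rw [← h5]
    rw [← Matrix.mul_assoc, hZZi, Matrix.one_mul] at h6
    exact h6.symm
  have hzk : ((z ^ k : GL (Fin d) F) : Matrix (Fin d) (Fin d) F) = Z ^ k := by
    rw [Units.val_pow_eq_pow_val]
  rw [hzk] at h
  -- apply Θ
  have hΘ : σ l • (1 : Matrix (Fin d) (Fin d) F) + Zi =
      Zi ^ k * (σ ν • (1 : Matrix (Fin d) (Fin d) F)) := by
    have h3 := congrArg Θ h
    rw [hadd, hsc, hz] at h3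
    rw [h3]
    have h2 : ν • Z ^ k = (ν • (1 : Matrix (Fin d) (Fin d) F)) * Z ^ k := by
      rw [Matrix.smul_mul, Matrix.one_mul]
    rw [h2, hmul, hsc, ao_LT_pow Θ hmul h1, hz]
  have hcomm : Commute Z Zi := by
    show Z * Zi = Zi * Z
    rw [hZZi, hZiZ]
  have hpow : Z ^ k * Zi ^ k = 1 := by
    rw [← hcomm.mul_pow, hZZi, one_pow]
  -- multiply the two equations
  have hprod : (l • (1 : Matrix (Fin d) (Fin d) F) + Z) * (σ l • (1 : Matrix (Fin d) (Fin d) F) + Zi) =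
      (ν * σ ν) • (1 : Matrix (Fin d) (Fin d) F) := by
    rw [h, hΘ, Matrix.smul_mul, ← Matrix.mul_assoc, hpow, Matrix.one_mul, smul_smul]
  have hexp : (l • (1 : Matrix (Fin d) (Fin d) F) + Z) * (σ l • (1 : Matrix (Fin d) (Fin d) F) + Zi) =
      (l * σ l + 1) • (1 : Matrix (Fin d) (Fin d) F) + l • Zi + σ l • Z := by
    rw [Matrix.add_mul, Matrix.mul_add, Matrix.mul_add, Matrix.smul_mul, Matrix.smul_mul,
      Matrix.one_mul, Matrix.one_mul, Matrix.mul_smul, Matrix.mul_one, hZZi, smul_smul, add_smul,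
      one_smul]
    abel
  have hrel : l • (1 : Matrix (Fin d) (Fin d) F) + (l * σ l + 1 - ν * σ ν) • Z + σ l • Z ^ 2 = 0 := by
    have h4 : ((l * σ l + 1) • (1 : Matrix (Fin d) (Fin d) F) + l • Zi + σ l • Z) * Z =
        ((ν * σ ν) • (1 : Matrix (Fin d) (Fin d) F)) * Z := by
      rw [← hexp, hprod]
    rw [Matrix.add_mul, Matrix.add_mul, Matrix.smul_mul, Matrix.smul_mul, Matrix.smul_mul,
      Matrix.smul_mul, Matrix.one_mul, hZiZ, ← pow_two] at h4
    rw [sub_smul]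
    rw [← sub_eq_zero] at h4
    rw [← h4]
    abel
  exact hl (hind _ _ _ hrel).1

end Cfsg.Agent.AutOrd
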