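import Mathlib

/-!
# S2262 / AutOrd, part [2b]-algebra (helper1)

For a square matrix `a` over a finite field `F` with `q` elements: the subalgebra `F[a]` has at
most `q ^ k` elements as soon as `a` is killed by a nonzero polynomial of degree `≤ k`
(so `≤ q ^ d` by Cayley–Hamilton); the invertible matrices lying in `F[z]` form a subgroup
`ao_U z` of `GL_d(F)` with at most `|F[z]| - 1` elements.
-/

set_option autoImplicit false
open Matrix Polynomial

namespace Cfsg.Agent.AutOrd

variable {F : Type*} [Field F] [Fintype F] {d : ℕ}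

/-- the subalgebra `F[a]` has at most `q ^ k` elements when `a` is a root of a nonzero polynomial
of degree at most `k` -/
theorem ao_card_adjoin_le (a : Matrix (Fin d) (Fin d) F) (Q : F[X]) (hQ : Q ≠ 0)
    (hQa : aeval a Q = 0) (k : ℕ) (hk : Q.natDegree ≤ k) :
    Nat.card (Algebra.adjoin F {a}) ≤ Fintype.card F ^ k := by
  classical
  set Q' := Q * C Q.leadingCoeff⁻¹ with hQ'
  have hmon : Q'.Monic := monic_mul_leadingCoeff_inv hQ
  have hQ'a : aeval a Q' = 0 := by rw [hQ', map_mul, hQa, zero_mul]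
  have hdeg : Q'.natDegree ≤ k := by
    have : Q'.natDegree = Q.natDegree := by
      rw [hQ']
      exact natDegree_mul_leadingCoeff_inv Q hQ
    omega
  -- surjection from polynomials of degree < k
  have hsurj : ∀ x : Algebra.adjoin F {a}, ∃ P : degreeLT F k, aeval a (P : F[X]) = (x : Matrix (Fin d) (Fin d) F) := by
    rintro ⟨x, hx⟩
    rw [Algebra.adjoin_singleton_eq_range_aeval] at hx
    obtain ⟨P, rfl⟩ := hx
    refine ⟨⟨P %ₘ Q', ?_⟩, ?_⟩
    · rw [mem_degreeLT]
      calc (P %ₘ Q').degree < Q'.degree := degree_modByMonic_lt P hmon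
        _ ≤ (Q'.natDegree : WithBot ℕ) := degree_le_natDegree
        _ ≤ (k : WithBot ℕ) := by exact_mod_cast hdeg
    · show aeval a (P %ₘ Q') = aeval a P
      conv_rhs => rw [← modByMonic_add_div P Q']
      rw [map_add, map_mul, hQ'a, zero_mul, add_zero]
  choose f hf using hsurj
  have hinj : Function.Injective f := by
    intro x y hxy
    apply Subtype.ext
    rw [← hf x, ← hf y, hxy]
  have hcard : Nat.card (degreeLT F k) = Fintype.card F ^ k := by
    rw [Nat.card_congr (degreeLTEquiv F k).toEquiv, Nat.card_eq_fintype_card, Fintype.card_fun,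
      Fintype.card_fin]
  have : Finite (degreeLT F k) := Finite.of_equiv _ (degreeLTEquiv F k).toEquiv.symm
  calc Nat.card (Algebra.adjoin F {a}) ≤ Nat.card (degreeLT F k) := Nat.card_le_card_of_injective f hinj
    _ = _ := hcard

theorem ao_card_adjoin_le_pow_dim (a : Matrix (Fin d) (Fin d) F) :
    Nat.card (Algebra.adjoin F {a}) ≤ Fintype.card F ^ d := by
  have h1 : a.charpoly ≠ 0 := (charpoly_monic a).ne_zero
  have h2 : a.charpoly.natDegree ≤ d := by
    rw [charpoly_natDegree_eq_dim, Fintype.card_fin]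
  exact ao_card_adjoin_le a a.charpoly h1 (aeval_self_charpoly a) d h2

/-- `1, a, a²` dependent (a nontrivial relation `c₀ + c₁ a + c₂ a² = 0`) gives `|F[a]| ≤ q²` -/
theorem ao_card_adjoin_le_sq (a : Matrix (Fin d) (Fin d) F) (c0 c1 c2 : F)
    (hc : c0 ≠ 0 ∨ c1 ≠ 0 ∨ c2 ≠ 0)
    (hrel : c0 • (1 : Matrix (Fin d) (Fin d) F) + c1 • a + c2 • a ^ 2 = 0) :
    Nat.card (Algebra.adjoin F {a}) ≤ Fintype.card F ^ 2 := by
  set Q : F[X] := C c0 + C c1 * X + C c2 * X ^ 2 with hQ
  have hQ0 : Q ≠ 0 := by
    intro h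
    have e0 : Q.coeff 0 = c0 := by simp [hQ]
    have e1 : Q.coeff 1 = c1 := by simp [hQ]
    have e2 : Q.coeff 2 = c2 := by simp [hQ]
    rw [h] at e0 e1 e2
    simp only [coeff_zero] at e0 e1 e2
    rcases hc with h | h | h
    · exact h e0.symm
    · exact h e1.symm
    · exact h e2.symm
  have hQa : aeval a Q = 0 := by
    rw [hQ]
    simp only [map_add, map_mul, map_pow, aeval_C, aeval_X]
    rw [← hrel]
    simp [Algebra.algebraMap_eq_smul_one, smul_mul_assoc]
  have hdeg : Q.natDegree ≤ 2 := by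
    rw [hQ]
    compute_degree
  exact ao_card_adjoin_le a Q hQ0 hQa 2 hdeg

/-- the invertible matrices of `F[z]`, as a subgroup of `GL_d(F)` -/
def ao_U (z : GL (Fin d) F) : Subgroup (GL (Fin d) F) where
  carrier := {u | (u : Matrix (Fin d) (Fin d) F) ∈ Algebra.adjoin F {(z : Matrix (Fin d) (Fin d) F)}}
  mul_mem' := by
    intro u v hu hv
    show ((u * v : GL (Fin d) F) : Matrix (Fin d) (Fin d) F) ∈
      Algebra.adjoin F {(z : Matrix (Fin d) (Fin d) F)}
    rw [Units.val_mul]
    exact mul_mem hu hv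
  one_mem' := by
    show ((1 : GL (Fin d) F) : Matrix (Fin d) (Fin d) F) ∈
      Algebra.adjoin F {(z : Matrix (Fin d) (Fin d) F)}
    rw [Units.val_one]
    exact one_mem _
  inv_mem' := by
    intro u hu
    show ((u⁻¹ : GL (Fin d) F) : Matrix (Fin d) (Fin d) F) ∈
      Algebra.adjoin F {(z : Matrix (Fin d) (Fin d) F)}
    have hn : 0 < orderOf u := orderOf_pos u
    have : u⁻¹ = u ^ (orderOf u - 1) := by
      rw [eq_comm, ← mul_eq_one_iff_eq_inv, ← pow_succ, Nat.sub_add_cancel hn, pow_orderOf_eq_one]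
    rw [this, Units.val_pow_eq_pow_val]
    exact pow_mem hu _

theorem ao_mem_U {z u : GL (Fin d) F} :
    u ∈ ao_U z ↔
      (u : Matrix (Fin d) (Fin d) F) ∈ Algebra.adjoin F {(z : Matrix (Fin d) (Fin d) F)} :=
  Iff.rfl

theorem ao_self_mem_U (z : GL (Fin d) F) : z ∈ ao_U z :=
  Algebra.subset_adjoin (Set.mem_singleton _)

/-- `|𝒰| + 1 ≤ |F[z]|` -/
theorem ao_card_U_lt (hd : 1 ≤ d) (z : GL (Fin d) F) :
    Nat.card (ao_U z) + 1 ≤
      Nat.card (Algebra.adjoin F {(z : Matrix (Fin d) (Fin d) F)}) := by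
  classical
  haveI : Nonempty (Fin d) := ⟨⟨0, by omega⟩⟩
  set A := Algebra.adjoin F {(z : Matrix (Fin d) (Fin d) F)} with hA
  let f : Option (ao_U z) → A := fun o =>
    match o with
    | none => 0
    | some u => ⟨(u : GL (Fin d) F), u.2⟩
  have hinj : Function.Injective f := by
    intro x y hxy
    rcases x with _ | x <;> rcases y with _ | y
    · rfl
    · exfalso
      have h0 : ((y : GL (Fin d) F) : Matrix (Fin d) (Fin d) F) = 0 := by
        have := congrArg (Subtype.val) hxy
        exact this.symm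
      have h1 : ((y : GL (Fin d) F) : Matrix (Fin d) (Fin d) F).det ≠ 0 :=
        (Matrix.isUnits_det_units (y : GL (Fin d) F)).ne_zero
      rw [h0, Matrix.det_zero] at h1
      exact h1 rfl
    · exfalso
      have h0 : ((x : GL (Fin d) F) : Matrix (Fin d) (Fin d) F) = 0 := by
        have := congrArg (Subtype.val) hxy
        exact this
      have h1 : ((x : GL (Fin d) F) : Matrix (Fin d) (Fin d) F).det ≠ 0 :=
        (Matrix.isUnits_det_units (x : GL (Fin d) F)).ne_zero
      rw [h0, Matrix.det_zero] at h1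
      exact h1 rfl
    · have := congrArg (Subtype.val) hxy
      have h2 : (x : GL (Fin d) F) = (y : GL (Fin d) F) := Units.ext this
      rw [Subtype.ext h2]
  have : Finite A := Finite.of_injective (fun x : A => (x : Matrix (Fin d) (Fin d) F))
    Subtype.val_injective
  have := Nat.card_le_card_of_injective f hinj
  rw [Nat.card_eq_fintype_card (α := Option (ao_U z)), Fintype.card_option,
    ← Nat.card_eq_fintype_card] at this
  exact this

end Cfsg.Agent.AutOrd
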