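import Mathlib

/-!
# S2262 / AutOrd, piece [G] (lead): the local step for the field with two elements

For `z ∈ GL_d(F)`, `|F| = 2`, `d ≥ 4`, with `1 + z` singular: `orderOf z ≤ 2^(d-1) - 1`.

Proof.  `R i := X^i %ₘ χ_z` (`i < orderOf z`) are pairwise distinct polynomials of degree `< d`
with value `1` at `1`; the polynomials `R i + 1` have value `0` at `1`; so `2 * orderOf z ≤ 2^d`.
If `orderOf z = 2^(d-1)` then `(1+z)^(2^(d-1)) = 0`, so `(1+z)^d = 0`, so `z^(2^a) = 1` for the
least `2^a ≥ d`, and `2^a ≤ 2(d-1) < 2^(d-1)`.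
-/

set_option autoImplicit false

namespace Cfsg.Agent.AutOrd

open Polynomial Matrix

/-- `2 * k < 2 ^ k` for `k ≥ 3`. -/
theorem ao_G_two_mul_lt_two_pow (k : ℕ) (hk : 3 ≤ k) : 2 * k < 2 ^ k := by
  induction k, hk using Nat.le_induction with
  | base => norm_num
  | succ n hn ih => rw [pow_succ]; omega

/-- A nilpotent `d × d` matrix over a field has `d`-th power zero. -/
theorem ao_G_pow_dim_eq_zero {F : Type*} [Field F] {d : ℕ} (N : Matrix (Fin d) (Fin d) F)
    (hN : IsNilpotent N) : N ^ d = 0 := by
  have h1 : IsNilpotent (N.charpoly - X ^ (Fintype.card (Fin d))) :=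
    Matrix.isNilpotent_charpoly_sub_pow_of_isNilpotent hN
  have h2 : N.charpoly - X ^ (Fintype.card (Fin d)) = 0 := h1.eq_zero
  have h3 : N.charpoly = X ^ d := by
    have := sub_eq_zero.mp h2
    simpa using this
  have h4 := Matrix.aeval_self_charpoly N
  rw [h3] at h4
  simpa using h4

theorem ao_G_order_le {F : Type*} [Field F] [Fintype F] (hF : Fintype.card F = 2) {d : ℕ}
    (hd : 4 ≤ d) (z : GL (Fin d) F)
    (hz : (1 + (z : Matrix (Fin d) (Fin d) F)).det = 0) : orderOf z ≤ 2 ^ (d - 1) - 1 := by
  classical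
  have : Nonempty (Fin d) := ⟨⟨0, by omega⟩⟩
  have h2 : (2 : F) = 0 := by
    have := Nat.cast_card_eq_zero F
    rw [hF] at this
    exact_mod_cast this
  have : CharP F 2 := (CharP.charP_iff_prime_eq_zero Nat.prime_two).2 (by exact_mod_cast h2)
  set M : Matrix (Fin d) (Fin d) F := (z : Matrix (Fin d) (Fin d) F) with hM
  have hneg : -M = M := by
    have : M + M = 0 := by rw [← two_smul F M, h2, zero_smul]
    exact neg_eq_of_add_eq_zero_left this
  set χ : F[X] := M.charpoly with hχ
  have hmon : χ.Monic := Matrix.charpoly_monic M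
  have hdeg : χ.natDegree = d := by
    rw [hχ, Matrix.charpoly_natDegree_eq_dim]; simp
  have hχ1 : χ.eval 1 = 0 := by
    rw [hχ, Matrix.eval_charpoly]
    have : (Matrix.scalar (Fin d) (1 : F) - M) = 1 + M := by
      rw [sub_eq_add_neg, hneg]; simp
    rw [this, hz]
  -- the remainders
  set R : ℕ → F[X] := fun i => X ^ i %ₘ χ with hR
  have hRdeg : ∀ i, (R i).degree < d := by
    intro i
    have := Polynomial.degree_modByMonic_lt (X ^ i) hmon
    rw [Polynomial.degree_eq_natDegree hmon.ne_zero, hdeg] at this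
    exact this
  have hRaeval : ∀ i, aeval M (R i) = M ^ i := by
    intro i
    have := Matrix.aeval_eq_aeval_mod_charpoly M (X ^ i)
    simp only [map_pow, aeval_X] at this
    exact this.symm
  have hReval : ∀ i, (R i).eval 1 = 1 := by
    intro i
    have h := Polynomial.modByMonic_add_div (X ^ i) χ
    have h' := congrArg (Polynomial.eval (1 : F)) h
    simp only [eval_add, eval_mul, hχ1, zero_mul, add_zero, eval_pow, eval_X, one_pow] at h'
    exact h'
  have hzpow : ∀ i j, R i = R j → z ^ i = z ^ j := by
    intro i j hij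
    have : M ^ i = M ^ j := by rw [← hRaeval i, ← hRaeval j, hij]
    apply Units.ext
    simpa [hM] using this
  set n := orderOf z with hn
  have hnpos : 0 < n := orderOf_pos z
  -- the injection
  have hone_deg : (1 : F[X]).degree < d := by
    rw [Polynomial.degree_one]; exact_mod_cast (by omega : 0 < d)
  let g : Fin n ⊕ Fin n → ↥(Polynomial.degreeLT F d) := fun s =>
    Sum.elim (fun i : Fin n => (⟨R i, Polynomial.mem_degreeLT.2 (hRdeg i)⟩ : ↥(Polynomial.degreeLT F d)))
      (fun i : Fin n => (⟨R i + 1, Polynomial.mem_degreeLT.2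
        (lt_of_le_of_lt (Polynomial.degree_add_le _ _) (max_lt (hRdeg i) hone_deg))⟩ :
          ↥(Polynomial.degreeLT F d))) s
  have hginj : Function.Injective g := by
    have key : ∀ i j : Fin n, R i = R j → i = j := by
      intro i j hij
      have h1 := hzpow i j hij
      have := pow_injOn_Iio_orderOf (x := z) (Set.mem_Iio.2 i.2) (Set.mem_Iio.2 j.2) h1
      exact Fin.ext this
    rintro (i | i) (j | j) hij
    · have : R i = R j := congrArg Subtype.val hij
      rw [key i j this]
    · exfalso
      have : R i = R j + 1 := congrArg Subtype.val hij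
      have h := congrArg (Polynomial.eval (1 : F)) this
      simp only [eval_add, eval_one, hReval] at h
      have : (1 : F) + 1 = 0 := by rw [one_add_one_eq_two, h2]
      rw [this] at h
      exact one_ne_zero h
    · exfalso
      have : R i + 1 = R j := congrArg Subtype.val hij
      have h := congrArg (Polynomial.eval (1 : F)) this
      simp only [eval_add, eval_one, hReval] at h
      have : (1 : F) + 1 = 0 := by rw [one_add_one_eq_two, h2]
      rw [this] at h
      exact one_ne_zero h.symm
    · have : R i + 1 = R j + 1 := congrArg Subtype.val hij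
      have : R i = R j := add_right_cancel this
      rw [key i j this]
  have hcard : Nat.card ↥(Polynomial.degreeLT F d) = 2 ^ d := by
    rw [Nat.card_congr (Polynomial.degreeLTEquiv F d).toEquiv, Nat.card_fun, Nat.card_eq_fintype_card,
      hF, Nat.card_eq_fintype_card, Fintype.card_fin]
  have : Finite ↥(Polynomial.degreeLT F d) :=
    Finite.of_equiv _ (Polynomial.degreeLTEquiv F d).toEquiv.symm
  have hle : 2 * n ≤ 2 ^ d := by
    have := Nat.card_le_card_of_injective g hginj
    rw [hcard, Nat.card_eq_fintype_card, Fintype.card_sum, Fintype.card_fin] at this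
    omega
  have hpow : 2 ^ d = 2 * 2 ^ (d - 1) := by
    conv_lhs => rw [show d = (d - 1) + 1 by omega, pow_succ]
    ring
  have hle' : n ≤ 2 ^ (d - 1) := by omega
  rcases Nat.lt_or_ge n (2 ^ (d - 1)) with hlt | hge
  · omega
  · exfalso
    have hneq : n = 2 ^ (d - 1) := le_antisymm hle' hge
    -- `1 + M` is nilpotent
    have : CharP (Matrix (Fin d) (Fin d) F) 2 := inferInstance
    have hMn : M ^ (2 ^ (d - 1)) = 1 := by
      have : z ^ n = 1 := pow_orderOf_eq_one z
      rw [hneq] at this
      have h := congrArg (fun u : GL (Fin d) F => (u : Matrix (Fin d) (Fin d) F)) this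
      simpa [hM] using h
    have hcomm : Commute (1 : Matrix (Fin d) (Fin d) F) M := Commute.one_left M
    have hNpow : (1 + M) ^ (2 ^ (d - 1)) = 0 := by
      rw [add_pow_char_pow_of_commute 2 (d - 1) hcomm, one_pow, hMn]
      rw [one_add_one_eq_two]
      have : (2 : Matrix (Fin d) (Fin d) F) = ((2 : ℕ) : Matrix (Fin d) (Fin d) F) := by norm_cast
      rw [this, CharP.cast_eq_zero]
    have hNd : (1 + M) ^ d = 0 := ao_G_pow_dim_eq_zero (1 + M) ⟨_, hNpow⟩
    -- the least power of two at least `d`
    set a := Nat.clog 2 d with ha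
    have ha1 : d ≤ 2 ^ a := Nat.le_pow_clog (by norm_num) d
    have ha2 : 2 ^ (a - 1) < d := Nat.pow_pred_clog_lt_self (by norm_num) (by omega)
    have hapos : 0 < a := Nat.clog_pos (by norm_num) (by omega)
    have ha3 : 2 ^ a = 2 * 2 ^ (a - 1) := by
      conv_lhs => rw [show a = (a - 1) + 1 by omega, pow_succ]
      ring
    have hNa : (1 + M) ^ (2 ^ a) = 0 := pow_eq_zero_of_le ha1 hNd
    have hMa : M ^ (2 ^ a) = 1 := by
      have hM' : M = 1 + (1 + M) := by
        rw [← add_assoc, one_add_one_eq_two]
        have : (2 : Matrix (Fin d) (Fin d) F) = ((2 : ℕ) : Matrix (Fin d) (Fin d) F) := by norm_cast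
        rw [this, CharP.cast_eq_zero, zero_add]
      have hc : Commute (1 : Matrix (Fin d) (Fin d) F) (1 + M) := Commute.one_left _
      calc M ^ (2 ^ a) = (1 + (1 + M)) ^ (2 ^ a) := by rw [← hM']
        _ = 1 ^ (2 ^ a) + (1 + M) ^ (2 ^ a) := add_pow_char_pow_of_commute 2 a hc
        _ = 1 := by rw [hNa, one_pow, add_zero]
    have hza : z ^ (2 ^ a) = 1 := by
      apply Units.ext
      simpa [hM] using hMa
    have hdvd : n ∣ 2 ^ a := orderOf_dvd_of_pow_eq_one hza
    have hnle : n ≤ 2 ^ a := Nat.le_of_dvd (by positivity) hdvd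
    have hlt := ao_G_two_mul_lt_two_pow (d - 1) (by omega)
    omega

end Cfsg.Agent.AutOrd
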