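import Mathlib
import Cfsg.Agent.AutOrd.Num
import Cfsg.Agent.AutOrd.Count
import Cfsg.Agent.AutOrd.TwoLocal
import Cfsg.Agent.AutOrd.TwoBAlg
import Cfsg.Agent.AutOrd.CountApply

/-!
# S2262 / AutOrd, the abstract core of case 2b (lead)

`z ∈ GL_d(F)` (finite field, `d ≥ 3`, `(d, q) ≠ (3, 2)`) and an additive, anti-multiplicative map `Θ`
of the matrix ring with `Θ (c • 1) = σ c • 1` and `Θ z = z⁻¹`.  Then for the least `n > 0` with `z ^ n`
scalar: `2 (q - 1) n ≤ q ^ d - 1`.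
-/

set_option autoImplicit false

namespace Cfsg.Agent.AutOrd

open Polynomial Matrix

variable {F : Type*} [Field F] [Fintype F] {d : ℕ}

/-- Pairwise distinct matrices of the form `P(M)`, when `ψ(M) = 0` with `ψ` monic of degree `≤ m`:
there are at most `q ^ m` of them. -/
theorem ao_2b_card_le (M : Matrix (Fin d) (Fin d) F) (ψ : F[X]) (hψ : ψ.Monic)
    (hroot : aeval M ψ = 0) (m : ℕ) (hm : ψ.natDegree ≤ m) {T : Type*}
    (v : T → Matrix (Fin d) (Fin d) F) (hv : Function.Injective v)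
    (hrange : ∀ t, ∃ P : F[X], aeval M P = v t) : Nat.card T ≤ Fintype.card F ^ m := by
  classical
  choose P hP using hrange
  have hdeg : ∀ t, (P t %ₘ ψ).degree < m := by
    intro t
    have h1 := Polynomial.degree_modByMonic_lt (P t) hψ
    rw [Polynomial.degree_eq_natDegree hψ.ne_zero] at h1
    exact lt_of_lt_of_le h1 (by exact_mod_cast hm)
  have haev : ∀ t, aeval M (P t %ₘ ψ) = v t := by
    intro t
    rw [Polynomial.aeval_modByMonic_eq_self_of_root hroot, hP]
  let g : T → ↥(Polynomial.degreeLT F m) := fun t =>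
    ⟨P t %ₘ ψ, Polynomial.mem_degreeLT.2 (hdeg t)⟩
  have hg : Function.Injective g := by
    intro s t hst
    apply hv
    have : P s %ₘ ψ = P t %ₘ ψ := congrArg Subtype.val hst
    rw [← haev s, ← haev t, this]
  have hcard : Nat.card ↥(Polynomial.degreeLT F m) = Fintype.card F ^ m := by
    rw [Nat.card_congr (Polynomial.degreeLTEquiv F m).toEquiv, Nat.card_fun,
      Nat.card_eq_fintype_card, Nat.card_eq_fintype_card, Fintype.card_fin]
  have : Finite ↥(Polynomial.degreeLT F m) :=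
    Finite.of_equiv _ (Polynomial.degreeLTEquiv F m).toEquiv.symm
  have := Nat.card_le_card_of_injective g hg
  rwa [hcard] at this

/-- scalar matrices -/
def ao_IsSc (A : Matrix (Fin d) (Fin d) F) : Prop := ∃ c : F, A = c • (1 : Matrix (Fin d) (Fin d) F)

theorem ao_2b_smul_one_inj (hd : 1 ≤ d) {a b : F}
    (h : a • (1 : Matrix (Fin d) (Fin d) F) = b • (1 : Matrix (Fin d) (Fin d) F)) : a = b := by
  have := congrFun (congrFun h ⟨0, by omega⟩) ⟨0, by omega⟩
  simpa using this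

/-- data of the situation -/
structure ao_2bData (F : Type*) [Field F] (d : ℕ) where
  M : Matrix (Fin d) (Fin d) F
  W : Matrix (Fin d) (Fin d) F
  hMW : M * W = 1
  hWM : W * M = 1

namespace ao_2bData

variable (D : ao_2bData F d)

theorem pow_mul_pow (k : ℕ) : D.M ^ k * D.W ^ k = 1 := by
  have hc : Commute D.M D.W := by
    show D.M * D.W = D.W * D.M
    rw [D.hMW, D.hWM]
  rw [← hc.mul_pow, D.hMW, one_pow]

theorem pow_mul_pow' (k : ℕ) : D.W ^ k * D.M ^ k = 1 := by
  have hc : Commute D.W D.M := by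
    show D.W * D.M = D.M * D.W
    rw [D.hMW, D.hWM]
  rw [← hc.mul_pow, D.hWM, one_pow]

/-- left cancellation of `M ^ k`. -/
theorem cancel (k : ℕ) {A B : Matrix (Fin d) (Fin d) F} (h : D.M ^ k * A = D.M ^ k * B) : A = B := by
  have := congrArg (fun X => D.W ^ k * X) h
  simp only [← mul_assoc, D.pow_mul_pow', one_mul] at this
  exact this

end ao_2bData

/-- distinctness of the elements `μ • M ^ i`, `i < n`, `n` minimal with `M ^ n` scalar. -/
theorem ao_2b_distinct (hd : 1 ≤ d) (D : ao_2bData F d) (n : ℕ)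
    (hmin : ∀ k, 0 < k → k < n → ¬ ao_IsSc (D.M ^ k)) {μ μ' : Fˣ} {i j : ℕ} (hi : i < n) (hj : j < n)
    (h : (μ : F) • D.M ^ i = (μ' : F) • D.M ^ j) : μ = μ' ∧ i = j := by
  -- wlog i ≤ j
  have key : ∀ {μ μ' : Fˣ} {i j : ℕ}, i ≤ j → j < n →
      (μ : F) • D.M ^ i = (μ' : F) • D.M ^ j → μ = μ' ∧ i = j := by
    intro μ μ' i j hij hj h
    have h1 : D.M ^ i * ((μ : F) • (1 : Matrix (Fin d) (Fin d) F)) =
        D.M ^ i * ((μ' : F) • D.M ^ (j - i)) := by
      rw [mul_smul_comm, mul_one, mul_smul_comm, ← pow_add, Nat.add_sub_cancel' hij]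
      exact h
    have h2 := D.cancel i h1
    have h3 : D.M ^ (j - i) = ((μ'⁻¹ * μ : Fˣ) : F) • (1 : Matrix (Fin d) (Fin d) F) := by
      have := congrArg (fun X => ((μ'⁻¹ : Fˣ) : F) • X) h2
      simp only [smul_smul] at this
      rw [← Units.val_mul, ← Units.val_mul, inv_mul_cancel, Units.val_one, one_smul] at this
      exact this.symm
    have hji : j - i = 0 := by
      by_contra hne
      exact hmin (j - i) (Nat.pos_of_ne_zero hne) (by omega) ⟨_, h3⟩
    have hij' : i = j := by omega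
    subst hij'
    refine ⟨?_, rfl⟩
    rw [Nat.sub_self, pow_zero] at h3
    have h4 : (1 : F) • (1 : Matrix (Fin d) (Fin d) F) =
        ((μ'⁻¹ * μ : Fˣ) : F) • (1 : Matrix (Fin d) (Fin d) F) := by rw [one_smul]; exact h3
    have h5 := ao_2b_smul_one_inj hd h4
    have h6 : (μ'⁻¹ * μ : Fˣ) = 1 := by
      apply Units.ext; rw [Units.val_one]; exact h5.symm
    have : μ = μ' := by
      have := congrArg (fun x => μ' * x) h6
      simpa using this
    exact this
  rcases Nat.le_total i j with hij | hij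
  · exact key hij hj h
  · obtain ⟨h1, h2⟩ := key hij hi h.symm
    exact ⟨h1.symm, h2.symm⟩

/-- the hypotheses on `Θ` -/
structure ao_2bTheta (D : ao_2bData F d) (σ : F → F)
    (Θ : Matrix (Fin d) (Fin d) F → Matrix (Fin d) (Fin d) F) : Prop where
  hadd : ∀ a b, Θ (a + b) = Θ a + Θ b
  hmul : ∀ a b, Θ (a * b) = Θ b * Θ a
  hsc : ∀ c : F, Θ (c • (1 : Matrix (Fin d) (Fin d) F)) = σ c • (1 : Matrix (Fin d) (Fin d) F)
  hz : Θ D.M = D.W

namespace ao_2bTheta

variable {D : ao_2bData F d} {σ : F → F} {Θ : Matrix (Fin d) (Fin d) F → Matrix (Fin d) (Fin d) F}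

theorem sigma_one (hd : 1 ≤ d) (H : ao_2bTheta D σ Θ) : σ 1 = 1 := by
  have h1 : Θ (D.M * ((1 : F) • (1 : Matrix (Fin d) (Fin d) F))) = D.W := by
    rw [one_smul, mul_one, H.hz]
  rw [H.hmul, H.hsc, H.hz, smul_mul_assoc, one_mul] at h1
  have h2 := congrArg (fun X => D.M * X) h1
  simp only [mul_smul_comm, D.hMW] at h2
  have h3 : σ 1 • (1 : Matrix (Fin d) (Fin d) F) = (1 : F) • (1 : Matrix (Fin d) (Fin d) F) := by
    rw [one_smul]; exact h2
  exact ao_2b_smul_one_inj hd h3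

theorem smul (H : ao_2bTheta D σ Θ) (c : F) (A : Matrix (Fin d) (Fin d) F) :
    Θ (c • A) = σ c • Θ A := by
  have : c • A = A * (c • (1 : Matrix (Fin d) (Fin d) F)) := by rw [mul_smul_comm, mul_one]
  rw [this, H.hmul, H.hsc, smul_mul_assoc, one_mul]

theorem pow (H : ao_2bTheta D σ Θ) (hd : 1 ≤ d) (k : ℕ) : Θ (D.M ^ k) = D.W ^ k := by
  induction k with
  | zero =>
    rw [pow_zero, pow_zero]
    have := H.hsc 1
    rw [one_smul, H.sigma_one hd, one_smul] at this
    exact this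
  | succ k ih => rw [pow_succ, H.hmul, ih, H.hz, pow_succ']

theorem sigma_ne_zero (H : ao_2bTheta D σ Θ) (hd : 1 ≤ d) (μ : Fˣ) : σ (μ : F) ≠ 0 := by
  intro h0
  have h1 : Θ (((μ : F) • (1 : Matrix (Fin d) (Fin d) F)) * (((μ⁻¹ : Fˣ) : F) • 1)) = 1 := by
    rw [smul_mul_smul_comm, mul_one, ← Units.val_mul, mul_inv_cancel, Units.val_one]
    have := H.hsc 1
    rw [one_smul, H.sigma_one hd, one_smul] at this
    rw [one_smul]; exact this
  rw [H.hmul, H.hsc, H.hsc, h0, zero_smul, mul_zero] at h1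
  have h3 : (0 : F) • (1 : Matrix (Fin d) (Fin d) F) = (1 : F) • (1 : Matrix (Fin d) (Fin d) F) := by
    rw [one_smul, zero_smul]; exact h1
  exact zero_ne_one (ao_2b_smul_one_inj hd h3)

end ao_2bTheta

/-- The linear trick: `λ + M` is not of the form `ν M^k` up to the elements `μ M^i`. -/
theorem ao_2b_trick (hd : 1 ≤ d) (D : ao_2bData F d) (σ : F → F)
    (Θ : Matrix (Fin d) (Fin d) F → Matrix (Fin d) (Fin d) F) (H : ao_2bTheta D σ Θ)
    (hind : ∀ a b c : F, a • (1 : Matrix (Fin d) (Fin d) F) + b • D.M + c • D.M ^ 2 = 0 → a = 0)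
    (lam : F) (hlam : lam ≠ 0) (μ μ' : Fˣ) (i j : ℕ)
    (h : (μ : F) • D.M ^ i = ((μ' : F) • D.M ^ j) * (D.M + lam • 1)) : False := by
  set u : Matrix (Fin d) (Fin d) F := D.M + lam • 1 with hu
  set us : Matrix (Fin d) (Fin d) F := D.W + σ lam • 1 with hus
  have hΘu : Θ u = us := by rw [hu, H.hadd, H.hz, H.hsc]
  have hcMW : Commute D.M D.W := by
    show D.M * D.W = D.W * D.M
    rw [D.hMW, D.hWM]
  -- apply Θ
  have E2 : σ (μ : F) • D.W ^ i = us * (σ (μ' : F) • D.W ^ j) := by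
    have := congrArg Θ h
    rw [H.smul, H.pow hd, H.hmul, hΘu, H.smul, H.pow hd] at this
    exact this
  -- the product
  set Y : Matrix (Fin d) (Fin d) F := u * us with hY
  have hYexp : Y = (1 + lam * σ lam) • (1 : Matrix (Fin d) (Fin d) F) + σ lam • D.M + lam • D.W := by
    rw [hY, hu, hus, add_mul, mul_add, mul_add, D.hMW, mul_smul_comm, mul_one, smul_mul_assoc,
      one_mul, smul_mul_smul_comm, mul_one, add_smul, one_smul]
    abel
  have hcMY : Commute D.M Y := by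
    rw [hYexp]
    refine Commute.add_right (Commute.add_right ?_ ?_) ?_
    · exact (Commute.one_right _).smul_right _
    · exact (Commute.refl _).smul_right _
    · exact hcMW.smul_right _
  have hprod : ((μ : F) * σ (μ : F)) • (1 : Matrix (Fin d) (Fin d) F) =
      ((μ' : F) * σ (μ' : F)) • Y := by
    have h1 : ((μ : F) • D.M ^ i) * (σ (μ : F) • D.W ^ i) =
        (((μ' : F) • D.M ^ j) * u) * (us * (σ (μ' : F) • D.W ^ j)) := by rw [h, E2]
    rw [smul_mul_smul_comm, D.pow_mul_pow] at h1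
    rw [h1]
    have h2 : (((μ' : F) • D.M ^ j) * u) * (us * (σ (μ' : F) • D.W ^ j)) =
        ((μ' : F) * σ (μ' : F)) • (D.M ^ j * Y * D.W ^ j) := by
      rw [hY]
      simp only [smul_mul_assoc, mul_smul_comm, smul_smul, mul_assoc]
      rw [mul_comm (σ (μ' : F)) (μ' : F)]
    rw [h2]
    congr 1
    rw [(hcMY.pow_left j).eq, mul_assoc, D.pow_mul_pow, mul_one]
  -- multiply by M
  have hYM : Y * D.M = (1 + lam * σ lam) • D.M + σ lam • D.M ^ 2 + lam • (1 : Matrix (Fin d) (Fin d) F) := by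
    rw [hYexp, add_mul, add_mul, smul_mul_assoc, one_mul, smul_mul_assoc, smul_mul_assoc, D.hWM, pow_two]
  have h3 := congrArg (fun X => X * D.M) hprod
  simp only [smul_mul_assoc, one_mul, hYM] at h3
  have h4 : ((μ' : F) * σ (μ' : F) * lam) • (1 : Matrix (Fin d) (Fin d) F) +
      ((μ' : F) * σ (μ' : F) * (1 + lam * σ lam) - (μ : F) * σ (μ : F)) • D.M +
      ((μ' : F) * σ (μ' : F) * σ lam) • D.M ^ 2 = 0 := by
    rw [sub_smul, h3]
    simp only [smul_add, smul_smul]
    abel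
  have h5 := hind _ _ _ h4
  have h6 : (μ' : F) ≠ 0 := μ'.ne_zero
  have h7 := H.sigma_ne_zero hd μ'
  exact (mul_ne_zero (mul_ne_zero h6 h7) hlam) h5

/-- a family of pairwise distinct nonzero elements of `F[M]`, plus `0`. -/
theorem ao_2b_card_adjoin (M : Matrix (Fin d) (Fin d) F) {T : Type*} (w : T → Matrix (Fin d) (Fin d) F)
    (hw : Function.Injective w) (hne : ∀ t, w t ≠ 0) (hmem : ∀ t, w t ∈ Algebra.adjoin F {M}) :
    Nat.card T + 1 ≤ Nat.card (Algebra.adjoin F {M}) := by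
  classical
  have : Finite T := Finite.of_injective w hw
  let g : Option T → ↥(Algebra.adjoin F {M}) := fun o =>
    match o with
    | none => 0
    | some t => ⟨w t, hmem t⟩
  have hg : Function.Injective g := by
    rintro (_ | s) (_ | t) h
    · rfl
    · exfalso
      have : (0 : Matrix (Fin d) (Fin d) F) = w t := congrArg Subtype.val h
      exact hne t this.symm
    · exfalso
      have : w s = (0 : Matrix (Fin d) (Fin d) F) := congrArg Subtype.val h
      exact hne s this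
    · have : w s = w t := congrArg Subtype.val h
      rw [hw this]
  have := Nat.card_le_card_of_injective g hg
  rwa [Finite.card_option] at this

theorem ao_2b_abs (hd : 3 ≤ d) (hex : ¬ (d = 3 ∧ Fintype.card F = 2)) (σ : F → F)
    (z : GL (Fin d) F) (Θ : Matrix (Fin d) (Fin d) F → Matrix (Fin d) (Fin d) F)
    (hadd : ∀ a b, Θ (a + b) = Θ a + Θ b) (hmul : ∀ a b, Θ (a * b) = Θ b * Θ a)
    (hsc : ∀ c : F, Θ (c • (1 : Matrix (Fin d) (Fin d) F)) = σ c • (1 : Matrix (Fin d) (Fin d) F))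
    (hz : Θ (z : Matrix (Fin d) (Fin d) F) = ((z⁻¹ : GL (Fin d) F) : Matrix (Fin d) (Fin d) F)) :
    ∃ n : ℕ, 0 < n ∧ (∃ c : F, ((z ^ n : GL (Fin d) F) : Matrix (Fin d) (Fin d) F) = c • 1) ∧
      2 * ((Fintype.card F - 1) * n) ≤ Fintype.card F ^ d - 1 := by
  classical
  have hd1 : 1 ≤ d := by omega
  have hne : Nonempty (Fin d) := ⟨⟨0, by omega⟩⟩
  obtain ⟨D, hDM, hDW⟩ : ∃ D : ao_2bData F d, D.M = (z : Matrix (Fin d) (Fin d) F) ∧
      D.W = ((z⁻¹ : GL (Fin d) F) : Matrix (Fin d) (Fin d) F) :=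
    ⟨⟨(z : Matrix (Fin d) (Fin d) F), ((z⁻¹ : GL (Fin d) F) : Matrix (Fin d) (Fin d) F),
      by simp, by simp⟩, rfl, rfl⟩
  have H : ao_2bTheta D σ Θ := ⟨hadd, hmul, hsc, by rw [hDM, hDW]; exact hz⟩
  have hq2 : 2 ≤ Fintype.card F := Fintype.one_lt_card
  have hqpos : 1 ≤ Fintype.card F ^ d := Nat.one_le_pow _ _ (by omega)
  -- the number n
  have hscal : ao_IsSc (D.M ^ orderOf z) := by
    refine ⟨1, ?_⟩
    rw [hDM, ← Units.val_pow_eq_pow_val, pow_orderOf_eq_one, Units.val_one, one_smul]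
  have hex_n : ∃ k, 0 < k ∧ ao_IsSc (D.M ^ k) := ⟨orderOf z, orderOf_pos z, hscal⟩
  set n := Nat.find hex_n with hn_def
  have hn : 0 < n ∧ ao_IsSc (D.M ^ n) := Nat.find_spec hex_n
  have hmin : ∀ k, 0 < k → k < n → ¬ ao_IsSc (D.M ^ k) :=
    fun k hk hkn hk' => Nat.find_min hex_n hkn ⟨hk, hk'⟩
  have hn_le : n ≤ orderOf z := Nat.find_min' hex_n ⟨orderOf_pos z, hscal⟩
  refine ⟨n, hn.1, ?_, ?_⟩
  · obtain ⟨c, hc⟩ := hn.2
    exact ⟨c, by rw [Units.val_pow_eq_pow_val, ← hDM]; exact hc⟩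
  -- the family `μ • M ^ i`
  let v₁ : Fˣ × Fin n → Matrix (Fin d) (Fin d) F := fun p => (p.1 : F) • D.M ^ (p.2 : ℕ)
  have hv₁inj : Function.Injective v₁ := by
    rintro ⟨μ, i⟩ ⟨μ', j⟩ h
    obtain ⟨h1, h2⟩ := ao_2b_distinct hd1 D n hmin i.2 j.2 h
    exact Prod.ext h1 (Fin.ext h2)
  have hv₁inv : ∀ p : Fˣ × Fin n, v₁ p * (((p.1⁻¹ : Fˣ) : F) • D.W ^ (p.2 : ℕ)) = 1 := by
    rintro ⟨μ, i⟩
    show ((μ : F) • D.M ^ (i : ℕ)) * (((μ⁻¹ : Fˣ) : F) • D.W ^ (i : ℕ)) = 1
    rw [smul_mul_smul_comm, D.pow_mul_pow, ← Units.val_mul, mul_inv_cancel, Units.val_one, one_smul]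
  have hv₁det : ∀ p, (v₁ p).det ≠ 0 := by
    intro p h0
    have := congrArg Matrix.det (hv₁inv p)
    rw [Matrix.det_mul, h0, zero_mul, Matrix.det_one] at this
    exact zero_ne_one this
  have hv₁ne : ∀ p, v₁ p ≠ 0 := by
    intro p h0
    apply hv₁det p
    rw [h0, Matrix.det_zero]
  have hv₁adj : ∀ p, v₁ p ∈ Algebra.adjoin F {D.M} := by
    rintro ⟨μ, i⟩
    show (μ : F) • D.M ^ (i : ℕ) ∈ Algebra.adjoin F {D.M}
    exact Subalgebra.smul_mem _ (Subalgebra.pow_mem _ (Algebra.subset_adjoin (Set.mem_singleton _)) _) _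
  have hv₁mem : ∀ p, ∃ P : F[X], aeval D.M P = v₁ p := by
    rintro ⟨μ, i⟩
    refine ⟨C (μ : F) * X ^ (i : ℕ), ?_⟩
    simp [v₁, Algebra.smul_def]
  have hcardU : Nat.card (Fˣ × Fin n) = (Fintype.card F - 1) * n := by
    rw [Nat.card_prod, Nat.card_eq_fintype_card, Fintype.card_units, Nat.card_eq_fintype_card,
      Fintype.card_fin]
  -- case (α)
  by_cases hdep : ∃ a b c : F, (a ≠ 0 ∨ b ≠ 0 ∨ c ≠ 0) ∧
      a • (1 : Matrix (Fin d) (Fin d) F) + b • D.M + c • D.M ^ 2 = 0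
  · obtain ⟨a, b, c, habc, hrel⟩ := hdep
    have h1 := ao_card_adjoin_le_sq D.M a b c habc hrel
    have h2 := ao_2b_card_adjoin D.M v₁ hv₁inj hv₁ne hv₁adj
    rw [hcardU] at h2
    have h3 := ao_num_sq (Fintype.card F) d hq2 hd
    have h4 : 1 ≤ Fintype.card F ^ 2 := Nat.one_le_pow _ _ (by omega)
    omega
  -- case (β)
  have hind : ∀ a b c : F, a • (1 : Matrix (Fin d) (Fin d) F) + b • D.M + c • D.M ^ 2 = 0 → a = 0 := by
    intro a b c hrel
    by_contra ha
    exact hdep ⟨a, b, c, Or.inl ha, hrel⟩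
  by_cases hs : ∃ lam : F, lam ≠ 0 ∧ (D.M + lam • (1 : Matrix (Fin d) (Fin d) F)).det ≠ 0
  · -- (β-i)
    obtain ⟨lam, hlam, hdet⟩ := hs
    set u : Matrix (Fin d) (Fin d) F := D.M + lam • (1 : Matrix (Fin d) (Fin d) F) with hu
    have huunit : IsUnit u.det := isUnit_iff_ne_zero.2 hdet
    have huadj : u ∈ Algebra.adjoin F {D.M} :=
      Subalgebra.add_mem _ (Algebra.subset_adjoin (Set.mem_singleton _))
        (Subalgebra.smul_mem _ (Subalgebra.one_mem _) _)
    let w : (Fˣ × Fin n) ⊕ (Fˣ × Fin n) → Matrix (Fin d) (Fin d) F := fun s =>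
      match s with
      | Sum.inl p => v₁ p
      | Sum.inr p => v₁ p * u
    have hcancel : ∀ A B : Matrix (Fin d) (Fin d) F, A * u = B * u → A = B := by
      intro A B hAB
      have := congrArg (fun X => X * u⁻¹) hAB
      simp only [Matrix.mul_assoc, Matrix.mul_nonsing_inv u huunit, Matrix.mul_one] at this
      exact this
    have hw : Function.Injective w := by
      rintro (p | p) (p' | p') h
      · have : v₁ p = v₁ p' := h
        rw [hv₁inj this]
      · exfalso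
        have h' : v₁ p = v₁ p' * u := h
        exact ao_2b_trick hd1 D σ Θ H hind lam hlam p.1 p'.1 p.2 p'.2 h'
      · exfalso
        have h' : v₁ p * u = v₁ p' := h
        exact ao_2b_trick hd1 D σ Θ H hind lam hlam p'.1 p.1 p'.2 p.2 h'.symm
      · have h' : v₁ p * u = v₁ p' * u := h
        rw [hv₁inj (hcancel _ _ h')]
    have hwne : ∀ s, w s ≠ 0 := by
      rintro (p | p) h0
      · exact hv₁ne p h0
      · have h' : v₁ p * u = 0 := h0
        have : v₁ p * u = 0 * u := by rw [h', zero_mul]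
        exact hv₁ne p (hcancel _ _ this)
    have hwadj : ∀ s, w s ∈ Algebra.adjoin F {D.M} := by
      rintro (p | p)
      · exact hv₁adj p
      · exact Subalgebra.mul_mem _ (hv₁adj p) huadj
    have h1 := ao_2b_card_adjoin D.M w hw hwne hwadj
    have h2 := ao_card_adjoin_le_pow_dim D.M
    rw [Nat.card_sum, hcardU] at h1
    omega
  · -- (β-ii)
    have hsing : ∀ lam : F, lam ≠ 0 → (D.M + lam • (1 : Matrix (Fin d) (Fin d) F)).det = 0 := by
      intro lam hlam
      by_contra h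
      exact hs ⟨lam, hlam, h⟩
    rcases Nat.lt_or_ge (Fintype.card F) 3 with hq3 | hq3
    · -- q = 2
      have hF2 : Fintype.card F = 2 := by omega
      have hd4 : 4 ≤ d := by
        by_contra h
        exact hex ⟨by omega, hF2⟩
      have h1 : (1 + (z : Matrix (Fin d) (Fin d) F)).det = 0 := by
        have := hsing 1 one_ne_zero
        rw [one_smul, add_comm, hDM] at this
        exact this
      have h2 := ao_G_order_le hF2 hd4 z h1
      have h3 : 2 ^ d = 2 * 2 ^ (d - 1) := by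
        conv_lhs => rw [show d = (d - 1) + 1 by omega, pow_succ]
        ring
      have h4 : 1 ≤ 2 ^ (d - 1) := Nat.one_le_two_pow
      rw [hF2, h3]
      omega
    · -- q ≥ 3
      have hz' : ∀ μ : F, μ ≠ 0 → (D.M - Matrix.scalar (Fin d) μ).det = 0 := by
        intro μ hμ
        have := hsing (-μ) (neg_ne_zero.2 hμ)
        have e : Matrix.scalar (Fin d) μ = μ • (1 : Matrix (Fin d) (Fin d) F) := by
          rw [Matrix.scalar_apply, Matrix.smul_one_eq_diagonal]
        rw [e, sub_eq_add_neg, ← neg_smul]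
        exact this
      have h1 := ao_cnt_units_adjoin_le' D.M hq3 hz' v₁ hv₁inj hv₁det hv₁mem
      rw [hcardU] at h1
      omega

end Cfsg.Agent.AutOrd
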