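import Mathlib
import Cfsg.Agent.AutOrd.AutApi

/-!
# S2262 / AutOrd, part [2b]-instantiation (helper1)

For `g ∈ GL_d(F)` and a field automorphism `σ` with `σ² = 1`, the map
`Θ a = g · σ(a)ᵀ · g⁻¹` on `M_d(F)` is additive, anti-multiplicative, `σ`-semilinear on scalars and
sends `z = g · σ(g)^{-T}` to `z⁻¹`.
-/

set_option autoImplicit false
open Matrix Cfsg.Agent.Helper8.AutSLn

namespace Cfsg.Agent.AutOrd

variable {F : Type*} [Field F] {d : ℕ}

/-- `Θ a = g · σ(a)ᵀ · g⁻¹` -/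
noncomputable def ao_Theta (σ : F ≃+* F) (g : GL (Fin d) F)
    (a : Matrix (Fin d) (Fin d) F) : Matrix (Fin d) (Fin d) F :=
  (g : Matrix (Fin d) (Fin d) F) * (a.map σ)ᵀ * ((g⁻¹ : GL (Fin d) F) : Matrix (Fin d) (Fin d) F)

theorem ao_Theta_add (σ : F ≃+* F) (g : GL (Fin d) F) (a b : Matrix (Fin d) (Fin d) F) :
    ao_Theta σ g (a + b) = ao_Theta σ g a + ao_Theta σ g b := by
  unfold ao_Theta
  have : (a + b).map σ = a.map σ + b.map σ := Matrix.map_add (σ : F →+ F) (fun _ _ => map_add σ _ _) a b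
  rw [this, Matrix.transpose_add, Matrix.mul_add, Matrix.add_mul]

theorem ao_Theta_mul (σ : F ≃+* F) (g : GL (Fin d) F) (a b : Matrix (Fin d) (Fin d) F) :
    ao_Theta σ g (a * b) = ao_Theta σ g b * ao_Theta σ g a := by
  unfold ao_Theta
  have h1 : (a * b).map σ = a.map σ * b.map σ := Matrix.map_mul (f := (σ : F →+* F))
  have h2 : ((g⁻¹ : GL (Fin d) F) : Matrix (Fin d) (Fin d) F) * (g : Matrix (Fin d) (Fin d) F) = 1 :=
    GL_coe_inv_mul g
  rw [h1, Matrix.transpose_mul]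
  calc (g : Matrix (Fin d) (Fin d) F) * ((b.map σ)ᵀ * (a.map σ)ᵀ) * ((g⁻¹ : GL (Fin d) F) : Matrix (Fin d) (Fin d) F)
      = (g : Matrix (Fin d) (Fin d) F) * (b.map σ)ᵀ * 1 * (a.map σ)ᵀ * ((g⁻¹ : GL (Fin d) F) : Matrix (Fin d) (Fin d) F) := by
        rw [Matrix.mul_one]; simp only [Matrix.mul_assoc]
    _ = _ := by rw [← h2]; simp only [Matrix.mul_assoc]

theorem ao_Theta_smul_one (σ : F ≃+* F) (g : GL (Fin d) F) (c : F) :
    ao_Theta σ g (c • (1 : Matrix (Fin d) (Fin d) F)) = σ c • (1 : Matrix (Fin d) (Fin d) F) := by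
  unfold ao_Theta
  have h1 : (c • (1 : Matrix (Fin d) (Fin d) F)).map σ = σ c • (1 : Matrix (Fin d) (Fin d) F) := by
    ext i j
    by_cases hij : i = j
    · subst hij; simp
    · simp [Matrix.one_apply_ne hij]
  rw [h1, Matrix.transpose_smul, Matrix.transpose_one, Matrix.mul_smul, Matrix.mul_one,
    Matrix.smul_mul, GL_coe_mul_inv]

/-- `Θ z = z⁻¹` for `z = g · σ(g)^{-T}`, `σ² = 1` -/
theorem ao_Theta_z (σ : F ≃+* F) (hσ : σ ^ 2 = 1) (g : GL (Fin d) F) :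
    ao_Theta σ g ((g * glInvTr (Matrix.GeneralLinearGroup.map (σ : F →+* F) g) : GL (Fin d) F) :
        Matrix (Fin d) (Fin d) F) =
      (((g * glInvTr (Matrix.GeneralLinearGroup.map (σ : F →+* F) g))⁻¹ : GL (Fin d) F) :
        Matrix (Fin d) (Fin d) F) := by
  set h := Matrix.GeneralLinearGroup.map (σ : F →+* F) g with hh
  have hmap : Matrix.GeneralLinearGroup.map (σ : F →+* F) (g * glInvTr h) = h * glInvTr g := by
    rw [map_mul, ao_E_map_glInvTr, hh, ao_E_map_map, ← pow_two, hσ, ao_E_map_one]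
  unfold ao_Theta
  rw [← GL_map_coe, hmap, Units.val_mul, Matrix.transpose_mul, glInvTr_coe, Matrix.transpose_transpose,
    _root_.mul_inv_rev, Units.val_mul, glInvTr_inv_coe]
  calc (g : Matrix (Fin d) (Fin d) F) * (((g⁻¹ : GL (Fin d) F) : Matrix (Fin d) (Fin d) F) *
        (h : Matrix (Fin d) (Fin d) F)ᵀ) * ((g⁻¹ : GL (Fin d) F) : Matrix (Fin d) (Fin d) F)
      = ((g : Matrix (Fin d) (Fin d) F) * ((g⁻¹ : GL (Fin d) F) : Matrix (Fin d) (Fin d) F)) *
        (h : Matrix (Fin d) (Fin d) F)ᵀ * ((g⁻¹ : GL (Fin d) F) : Matrix (Fin d) (Fin d) F) := by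
        simp only [Matrix.mul_assoc]
    _ = _ := by rw [GL_coe_mul_inv, Matrix.one_mul]

end Cfsg.Agent.AutOrd
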