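import Mathlib
import Cfsg.Agent.AutOrd.AutApi
import Cfsg.Agent.AutOrd.Artin
import Cfsg.Agent.AutOrd.Num
import Cfsg.Agent.AutOrd.Exist
import Cfsg.Agent.AutOrd.TwoBInst
import Cfsg.Agent.AutOrd.TwoBAbs
import Cfsg.Agent.AutOrd.CoreB

/-!
# S2262 / AutOrd: final assembly (helper1)

`ao_main`: every automorphism of `PSL_d(F)` has order at most `(q^d-1)/(q-1)`, and this order
occurs.  Case 1 (`c_g f_σ`): `ao_case1`; Case 2 (`c_g f_σ ι`): `ao_case2`.
-/

set_option autoImplicit false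
open Matrix Cfsg.Agent.Helper8.AutSLn

namespace Cfsg.Agent.AutOrd

variable {F : Type*} [Field F] [Fintype F] {d : ℕ}

theorem ao_ineq1 (a e d n : ℕ) (ha : 2 ≤ a) (he : 1 ≤ e) (hd : 2 ≤ d)
    (hex : ¬ (d = 2 ∧ a = 2 ∧ e = 2)) (hn : (a - 1) * n ≤ a ^ d - 1) :
    (a ^ e - 1) * (e * n) ≤ (a ^ e) ^ d - 1 := by
  rw [← ao_S_mul a d (by omega)] at hn
  have hn' : n ≤ ao_S a d := Nat.le_of_mul_le_mul_left hn (by omega)
  have h1 := ao_num_I1 a e d ha he hd hex
  have hae : 1 ≤ a ^ e := Nat.one_le_pow _ _ (by omega)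
  rw [← ao_S_mul (a ^ e) d hae]
  exact Nat.mul_le_mul_left _ ((Nat.mul_le_mul_left e hn').trans h1)

theorem ao_ineq2 (a e d n : ℕ) (ha : 2 ≤ a) (he : 2 ≤ e) (hd : 3 ≤ d)
    (hex : ¬ (a = 2 ∧ e = 2)) (hn : (a - 1) * n ≤ a ^ d - 1) :
    (a ^ e - 1) * (2 * e * n) ≤ (a ^ e) ^ d - 1 := by
  rw [← ao_S_mul a d (by omega)] at hn
  have hn' : n ≤ ao_S a d := Nat.le_of_mul_le_mul_left hn (by omega)
  have h1 := ao_num_I2 a e d ha he hd hex
  have hae : 1 ≤ a ^ e := Nat.one_le_pow _ _ (by omega)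
  rw [← ao_S_mul (a ^ e) d hae]
  exact Nat.mul_le_mul_left _ ((Nat.mul_le_mul_left (2 * e) hn').trans h1)

/-- Case 2b: `σ² = 1` -/
theorem ao_case2b (hd : 3 ≤ d) (hex : ¬ (d = 3 ∧ Fintype.card F = 2)) (σ : F ≃+* F)
    (hσ : σ ^ 2 = 1) (g : GL (Fin d) F) :
    2 * ((Fintype.card F - 1) *
      orderOf (pslConj (g * glInvTr (Matrix.GeneralLinearGroup.map (σ : F →+* F) g)))) ≤
      Fintype.card F ^ d - 1 := by
  haveI : Nontrivial (Fin d) := Fin.nontrivial_iff_two_le.mpr (by omega)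
  set z := g * glInvTr (Matrix.GeneralLinearGroup.map (σ : F →+* F) g) with hz
  obtain ⟨n, hn, ⟨c, hc⟩, hle⟩ := ao_2b_abs hd hex σ z (ao_Theta σ g) (ao_Theta_add σ g)
    (ao_Theta_mul σ g) (ao_Theta_smul_one σ g) (ao_Theta_z σ hσ g)
  have hdvd := ao_E_orderOf_pslConj_dvd z n c hc
  have hle' : orderOf (pslConj z : MulAut (ProjectiveSpecialLinearGroup (Fin d) F)) ≤ n :=
    Nat.le_of_dvd hn hdvd
  calc 2 * ((Fintype.card F - 1) * orderOf (pslConj z))
      ≤ 2 * ((Fintype.card F - 1) * n) :=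
        Nat.mul_le_mul_left _ (Nat.mul_le_mul_left _ hle')
    _ ≤ _ := hle

instance ao_finite_ringAut : Finite (F ≃+* F) :=
  Finite.of_injective (fun σ : F ≃+* F => (σ : F → F)) DFunLike.coe_injective

theorem ao_orderOf_le_mul_pow {G : Type*} [Group G] (x : G) (k : ℕ) (hk : 0 < k) :
    orderOf x ≤ k * orderOf (x ^ k) := by
  by_cases h : orderOf (x ^ k) = 0
  · have : orderOf x = 0 := by
      by_contra h0
      have hx : IsOfFinOrder x := orderOf_pos_iff.mp (Nat.pos_of_ne_zero h0)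
      exact (orderOf_pos_iff.mpr (hx.pow (n := k))).ne' h
    rw [this]; exact Nat.zero_le _
  · apply Nat.le_of_dvd (Nat.mul_pos hk (Nat.pos_of_ne_zero h))
    apply orderOf_dvd_of_pow_eq_one
    rw [pow_mul, pow_orderOf_eq_one]

theorem ao_case1 (hd : 2 ≤ d) (hex : ¬ (d = 2 ∧ Fintype.card F = 4)) (g : GL (Fin d) F)
    (σ : F ≃+* F) :
    (Fintype.card F - 1) * orderOf (pslConj g * pslField σ) ≤ Fintype.card F ^ d - 1 := by
  set e := orderOf σ with he
  have he1 : 1 ≤ e := orderOf_pos σ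
  have hq : ao_q0 σ ^ e = Fintype.card F := ao_q0_pow σ
  have h2 : 2 ≤ ao_q0 σ := ao_q0_two_le σ
  have hpow : (pslConj g * pslField σ) ^ e = pslConj (ao_norm σ g e) := by
    rw [ao_pow_conj_field, he, pow_orderOf_eq_one, pslField_one, mul_one]
  have hcore := ao_case1_core (by omega : 1 ≤ d) σ g (ao_norm σ g e) (ao_norm_twist σ g)
  have hle : orderOf (pslConj g * pslField σ) ≤ e * orderOf (pslConj (ao_norm σ g e)) := by
    rw [← hpow]; exact ao_orderOf_le_mul_pow _ e he1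
  have hex' : ¬ (d = 2 ∧ ao_q0 σ = 2 ∧ e = 2) := by
    rintro ⟨h1, h2', h3⟩
    apply hex
    refine ⟨h1, ?_⟩
    rw [← hq, h2', h3]; norm_num
  have := ao_ineq1 (ao_q0 σ) e d _ h2 he1 hd hex' hcore
  rw [hq] at this
  calc (Fintype.card F - 1) * orderOf (pslConj g * pslField σ)
      ≤ (Fintype.card F - 1) * (e * orderOf (pslConj (ao_norm σ g e))) :=
        Nat.mul_le_mul_left _ hle
    _ ≤ _ := this

theorem ao_case2 (hd : 3 ≤ d) (hex : ¬ (d = 3 ∧ Fintype.card F = 2)) (g : GL (Fin d) F)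
    (σ : F ≃+* F) :
    (Fintype.card F - 1) * orderOf (pslConj g * pslField σ * pslInvTr) ≤
      Fintype.card F ^ d - 1 := by
  set β := pslConj g * pslField σ * pslInvTr with hβ
  have hsq := ao_graph_sq σ g
  set z := g * glInvTr (Matrix.GeneralLinearGroup.map (σ : F →+* F) g) with hz
  have hle2 : orderOf β ≤ 2 * orderOf (β ^ 2) := ao_orderOf_le_mul_pow β 2 (by norm_num)
  by_cases hσ : σ ^ 2 = 1
  · have h2b := ao_case2b hd hex σ hσ g
    have hb2 : β ^ 2 = pslConj z := by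
      rw [hβ, hsq, hσ, pslField_one, mul_one]
    rw [hb2] at hle2
    calc (Fintype.card F - 1) * orderOf β
        ≤ (Fintype.card F - 1) * (2 * orderOf (pslConj z)) := Nat.mul_le_mul_left _ hle2
      _ = 2 * ((Fintype.card F - 1) * orderOf (pslConj z)) := by ring
      _ ≤ _ := h2b
  · -- σ² ≠ 1
    set τ := σ ^ 2 with hτ
    set e := orderOf τ with he
    have he1 : 1 ≤ e := orderOf_pos τ
    have he2 : 2 ≤ e := by
      rcases Nat.lt_or_ge e 2 with h | h
      · exfalso; apply hσ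
        have : e = 1 := by omega
        exact orderOf_eq_one_iff.mp this
      · exact h
    have hq : ao_q0 τ ^ e = Fintype.card F := ao_q0_pow τ
    have h2 : 2 ≤ ao_q0 τ := ao_q0_two_le τ
    have hb2 : β ^ 2 = pslConj z * pslField τ := by rw [hβ, hsq]
    have hpow : (β ^ 2) ^ e = pslConj (ao_norm τ z e) := by
      rw [hb2, ao_pow_conj_field, he, pow_orderOf_eq_one, pslField_one, mul_one]
    have hcore := ao_case1_core (by omega : 1 ≤ d) τ z (ao_norm τ z e) (ao_norm_twist τ z)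
    have hle : orderOf (β ^ 2) ≤ e * orderOf (pslConj (ao_norm τ z e)) := by
      rw [← hpow]; exact ao_orderOf_le_mul_pow _ e he1
    have hex' : ¬ (ao_q0 τ = 2 ∧ e = 2) := by
      rintro ⟨h2', h3⟩
      -- then card F = 4 but orderOf σ = 4 forces card F = q0(σ)^4 ≥ 16
      have hF4 : Fintype.card F = 4 := by rw [← hq, h2', h3]; norm_num
      have ho : orderOf σ = 4 := by
        have hne : ¬ σ ^ 2 ^ 1 = 1 := by simpa using hσ
        have h4 : σ ^ 2 ^ (1 + 1) = 1 := by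
          have : τ ^ 2 = 1 := by rw [← h3, he]; exact pow_orderOf_eq_one τ
          rw [hτ, ← pow_mul] at this
          simpa using this
        have := orderOf_eq_prime_pow hne h4
        simpa using this
      have hq4 : ao_q0 σ ^ 4 = 4 := by
        have h := ao_q0_pow σ
        rw [ho, hF4] at h
        exact h
      have h2σ : 2 ≤ ao_q0 σ := ao_q0_two_le σ
      have : 2 ^ 4 ≤ ao_q0 σ ^ 4 := Nat.pow_le_pow_left h2σ 4
      omega
    have := ao_ineq2 (ao_q0 τ) e d _ h2 he2 hd hex' hcore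
    rw [hq] at this
    calc (Fintype.card F - 1) * orderOf β
        ≤ (Fintype.card F - 1) * (2 * (e * orderOf (pslConj (ao_norm τ z e)))) := by
          apply Nat.mul_le_mul_left
          exact hle2.trans (Nat.mul_le_mul_left 2 hle)
      _ = (Fintype.card F - 1) * (2 * e * orderOf (pslConj (ao_norm τ z e))) := by ring
      _ ≤ _ := this

theorem ao_main (d : ℕ) (hd : 2 ≤ d)
    (h2 : d = 2 → 4 ≤ Fintype.card F) (h24 : ¬ (d = 2 ∧ Fintype.card F = 4))
    (h32 : ¬ (d = 3 ∧ Fintype.card F = 2)) :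
    (∀ φ : MulAut (Matrix.ProjectiveSpecialLinearGroup (Fin d) F),
      (Fintype.card F - 1) * orderOf φ ≤ Fintype.card F ^ d - 1) ∧
    (∃ φ : MulAut (Matrix.ProjectiveSpecialLinearGroup (Fin d) F),
      (Fintype.card F - 1) * orderOf φ = Fintype.card F ^ d - 1) := by
  classical
  refine ⟨?_, ao_H_exists d hd⟩
  intro φ
  obtain ⟨p, hp⟩ := CharP.exists F
  haveI : Fact p.Prime := ⟨CharP.char_is_prime F p⟩
  rcases Nat.lt_or_ge d 3 with h3 | h3
  · obtain rfl : d = 2 := by omega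
    obtain ⟨g, σ, h⟩ := aut_PSL2_standard p φ
    rw [h]
    exact ao_case1 hd h24 g σ
  · obtain ⟨g, σ, h | h⟩ := aut_PSL_standard_fin p hd φ
    · rw [h]
      exact ao_case1 hd (fun h => by omega) g σ
    · rw [h]
      exact ao_case2 h3 h32 g σ

end Cfsg.Agent.AutOrd
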